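import Cfsg.Agent.G2Inv.Weyl
import Cfsg.Agent.ChevSteinberg.GrpSys

/-!
# Root elements of G₂(q) inside the group: commutators, torus, rank one identities
-/

set_option autoImplicit false

namespace Cfsg.Agent.G2Deg

open Cfsg.Lie Cfsg.Agent.ChevGrp Cfsg.Agent.G2Inv
open scoped MatrixGroups

variable {F : Type*} [Field F]

/-- The group. -/
abbrev Gam (F : Type*) [Field F] := ↥(chevG2.group F)

/-- The system inside the group. -/
noncomputable abbrev gs (F : Type*) [Field F] : Sys chevG2 F (Gam F) := ChevSteinberg.grpSys (G2Inv.rules F)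

/-- The root elements. -/
noncomputable abbrev X (r : ℕ) (t : F) : Gam F := (gs F).x r t

theorem coe_X (r : ℕ) (t : F) : ((X r t : Gam F) : GL chevG2.Idx F) = (sys F).x r t := rfl

theorem X_add {r : ℕ} (hr : r < 12) (t u : F) : X r t * X r u = X r (t + u) := (gs F).x_add r hr t u

theorem X_zero {r : ℕ} (hr : r < 12) : X r (0 : F) = 1 := (gs F).x_zero hr

theorem X_inv {r : ℕ} (hr : r < 12) (t : F) : (X r t)⁻¹ = X r (-t) := (gs F).x_inv hr t

theorem comm_self {r : ℕ} (hr : r < 12) (t u : F) : Commute (X r t) (X r u) := by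
  show X r t * X r u = X r u * X r t
  rw [X_add hr, X_add hr, add_comm]

/-- The word of a conjugate. -/
def cjWord (F : Type*) [Field F] (r s : ℕ) (t u : F) : List (ℕ × F) :=
  (chevG2.commTerms r s).map fun c => (c.1, (c.2.1 : F) * t ^ c.2.2.1 * u ^ c.2.2.2)

theorem cj {r s : ℕ} (hr : r < 12) (hs : s < 12) (h1 : s ≠ r) (h2 : s ≠ chevG2.neg r) (t u : F) :
    X r t * X s u * (X r t)⁻¹ = X s u * ((cjWord F r s t u).map fun p => X p.1 p.2).prod := by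
  have e := (gs F).comm r hr s hs h1 h2 (-t) u
  have hw : chevG2.commWord F r s (-t) u = cjWord F r s t u := by
    simp [ChevalleyDatum.commWord, cjWord]
  rw [hw] at e
  show X r t * X s u * (X r t)⁻¹ = _
  rw [X_inv hr, mul_assoc, show X s u * X r (-t) = _ from e, ← mul_assoc, ← mul_assoc, X_add hr, add_neg_cancel,
    X_zero hr, one_mul]

theorem cj_nil {r s : ℕ} (hr : r < 12) (hs : s < 12) (h1 : s ≠ r) (h2 : s ≠ chevG2.neg r)
    (h : chevG2.commTerms r s = []) (t u : F) : Commute (X r t) (X s u) :=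
  by
  have e := (gs F).comm r hr s hs h1 h2 t u
  simp only [ChevalleyDatum.commWord, h, List.map_nil, List.prod_nil, mul_one] at e
  exact e.symm

theorem commPairs : ∀ p ∈ ([(6, 8), (6, 9), (6, 11), (7, 10), (7, 11), (8, 10), (8, 11), (9, 10), (9, 11),
      (10, 11), (0, 1), (5, 10), (5, 9), (1, 6), (0, 5)] : List (ℕ × ℕ)),
    (p.1 < 12 ∧ p.2 < 12 ∧ p.2 ≠ p.1 ∧ p.2 ≠ chevG2.neg p.1 ∧ chevG2.commTerms p.1 p.2 = []) := by
  decide +kernel

theorem commX {r s : ℕ} (h : (r, s) ∈ ([(6, 8), (6, 9), (6, 11), (7, 10), (7, 11), (8, 10), (8, 11), (9, 10),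
      (9, 11), (10, 11), (0, 1), (5, 10), (5, 9), (1, 6), (0, 5)] : List (ℕ × ℕ))) (t u : F) :
    Commute (X r t) (X s u) := by
  obtain ⟨a, b, c, d, e⟩ := commPairs (r, s) h
  exact cj_nil a b c d e t u

theorem negData : chevG2.neg 7 = 4 ∧ chevG2.neg 6 = 5 ∧ chevG2.neg 10 = 1 ∧ chevG2.neg 8 = 3 ∧ chevG2.neg 4 = 7 ∧
    chevG2.neg 5 = 6 := by
  decide +kernel

theorem ct76 : chevG2.commTerms 7 6 = [(8, -1, 1, 1), (9, 1, 2, 1), (10, 1, 3, 1), (11, 1, 3, 2)] := by decide +kernel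
theorem ct78 : chevG2.commTerms 7 8 = [(9, -2, 1, 1), (10, -3, 2, 1), (11, 3, 1, 2)] := by decide +kernel
theorem ct79 : chevG2.commTerms 7 9 = [(10, 3, 1, 1)] := by decide +kernel
theorem ct610 : chevG2.commTerms 6 10 = [(11, 1, 1, 1)] := by decide +kernel
theorem ct89 : chevG2.commTerms 8 9 = [(11, 3, 1, 1)] := by decide +kernel
theorem ct410 : chevG2.commTerms 4 10 = [(9, 1, 1, 1), (8, -1, 2, 1), (6, 1, 3, 1), (11, -1, 3, 2)] := by decide +kernel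
theorem ct49 : chevG2.commTerms 4 9 = [(8, -2, 1, 1), (6, 3, 2, 1), (11, -3, 1, 2)] := by decide +kernel
theorem ct48 : chevG2.commTerms 4 8 = [(6, -3, 1, 1)] := by decide +kernel
theorem ct51 : chevG2.commTerms 5 1 = [(0, -1, 1, 1)] := by decide +kernel
theorem ct60 : chevG2.commTerms 6 0 = [(1, -1, 1, 1)] := by decide +kernel
theorem ct67 : chevG2.commTerms 6 7 = [(8, 1, 1, 1), (9, 1, 1, 2), (10, -1, 1, 3), (11, -2, 2, 3)] := by decide +kernel

theorem cj76 (t u : F) : X 7 t * X 6 u * (X 7 t)⁻¹ =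
    X 6 u * X 8 (-(t * u)) * X 9 (t ^ 2 * u) * X 10 (t ^ 3 * u) * X 11 (t ^ 3 * u ^ 2) := by
  rw [cj (by decide) (by decide) (by decide) (by rw [negData.1]; decide)]
  simp [cjWord, ct76, mul_assoc]

theorem cj78 (t u : F) : X 7 t * X 8 u * (X 7 t)⁻¹ =
    X 8 u * X 9 (-(2 * t * u)) * X 10 (-(3 * t ^ 2 * u)) * X 11 (3 * t * u ^ 2) := by
  rw [cj (by decide) (by decide) (by decide) (by rw [negData.1]; decide)]
  simp [cjWord, ct78, mul_assoc]

theorem cj79 (t u : F) : X 7 t * X 9 u * (X 7 t)⁻¹ = X 9 u * X 10 (3 * t * u) := by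
  rw [cj (by decide) (by decide) (by decide) (by rw [negData.1]; decide)]
  simp [cjWord, ct79, mul_assoc]

theorem cj610 (t u : F) : X 6 t * X 10 u * (X 6 t)⁻¹ = X 10 u * X 11 (t * u) := by
  rw [cj (by decide) (by decide) (by decide) (by rw [negData.2.1]; decide)]
  simp [cjWord, ct610, mul_assoc]

theorem cj89 (t u : F) : X 8 t * X 9 u * (X 8 t)⁻¹ = X 9 u * X 11 (3 * t * u) := by
  rw [cj (by decide) (by decide) (by decide) (by rw [negData.2.2.2.1]; decide)]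
  simp [cjWord, ct89, mul_assoc]

theorem cj410 (t u : F) : X 4 t * X 10 u * (X 4 t)⁻¹ =
    X 10 u * X 9 (t * u) * X 8 (-(t ^ 2 * u)) * X 6 (t ^ 3 * u) * X 11 (-(t ^ 3 * u ^ 2)) := by
  rw [cj (by decide) (by decide) (by decide) (by rw [negData.2.2.2.2.1]; decide)]
  simp [cjWord, ct410, mul_assoc]

theorem cj49 (t u : F) : X 4 t * X 9 u * (X 4 t)⁻¹ =
    X 9 u * X 8 (-(2 * t * u)) * X 6 (3 * t ^ 2 * u) * X 11 (-(3 * t * u ^ 2)) := by
  rw [cj (by decide) (by decide) (by decide) (by rw [negData.2.2.2.2.1]; decide)]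
  simp [cjWord, ct49, mul_assoc]

theorem cj48 (t u : F) : X 4 t * X 8 u * (X 4 t)⁻¹ = X 8 u * X 6 (-(3 * t * u)) := by
  rw [cj (by decide) (by decide) (by decide) (by rw [negData.2.2.2.2.1]; decide)]
  simp [cjWord, ct48, mul_assoc]

theorem cj51 (t u : F) : X 5 t * X 1 u * (X 5 t)⁻¹ = X 1 u * X 0 (-(t * u)) := by
  rw [cj (by decide) (by decide) (by decide) (by rw [negData.2.2.2.2.2]; decide)]
  simp [cjWord, ct51, mul_assoc]

theorem cj60 (t u : F) : X 6 t * X 0 u * (X 6 t)⁻¹ = X 0 u * X 1 (-(t * u)) := by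
  rw [cj (by decide) (by decide) (by decide) (by rw [negData.2.1]; decide)]
  simp [cjWord, ct60, mul_assoc]

theorem cj67 (t u : F) : X 6 t * X 7 u * (X 6 t)⁻¹ =
    X 7 u * X 8 (t * u) * X 9 (t * u ^ 2) * X 10 (-(t * u ^ 3)) * X 11 (-(2 * t ^ 2 * u ^ 3)) := by
  rw [cj (by decide) (by decide) (by decide) (by rw [negData.2.1]; decide)]
  simp [cjWord, ct67, mul_assoc]

/-- The torus element with the values `u`, `v` on the two fundamental roots. -/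
noncomputable def tor (u v : Fˣ) : Gam F :=
  (gs F).hEl (chevG2.simple i0) ((u : F) ^ 2 * v) * (gs F).hEl (chevG2.simple i1) ((u : F) ^ 3 * (v : F) ^ 2)

theorem coe_tor (u v : Fˣ) :
    ((tor u v : Gam F) : GL chevG2.Idx F) = hpair ((u : F) ^ 2 * v) ((u : F) ^ 3 * (v : F) ^ 2) := rfl

theorem tor_mem (u v : Fˣ) : tor u v ∈ (gs F).Hbar :=
  mul_mem ((gs F).hEl_simple_mem i0 (by simp)) ((gs F).hEl_simple_mem i1 (by simp))

/-- The coefficients of a root on the fundamental roots. -/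
def cof (s : ℕ) : ℤ × ℤ := (2 * chevG2.cartan 0 s + 3 * chevG2.cartan 1 s, chevG2.cartan 0 s + 2 * chevG2.cartan 1 s)

theorem cofData : cof 7 = (1, 0) ∧ cof 6 = (0, 1) ∧ cof 8 = (1, 1) ∧ cof 9 = (2, 1) ∧ cof 10 = (3, 1) ∧
    cof 11 = (3, 2) ∧ cof 4 = (-1, 0) ∧ cof 5 = (0, -1) ∧ cof 1 = (-3, -1) ∧ cof 0 = (-3, -2) := by
  decide +kernel

theorem tor_conj (u v : Fˣ) {s : ℕ} (hs : s < 12) (t : F) :
    tor u v * X s t * (tor u v)⁻¹ = X s ((u : F) ^ (cof s).1 * (v : F) ^ (cof s).2 * t) := by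
  refine Subtype.ext ?_
  simp only [Subgroup.coe_mul, Subgroup.coe_inv, coe_tor, coe_X]
  have hu : (u : F) ≠ 0 := u.ne_zero
  have hv : (v : F) ≠ 0 := v.ne_zero
  rw [hpair_conj (by simp) (by simp) hs]
  congr 2
  simp only [chi, cof, mul_zpow, ← zpow_natCast, ← zpow_mul, Nat.cast_ofNat]
  rw [zpow_add₀ hu, zpow_add₀ hv]
  ring

theorem exists_tor {h : Gam F} (hh : h ∈ (gs F).Hbar) : ∃ u v : Fˣ, h = tor u v := by
  have hh' : (h : GL chevG2.Idx F) ∈ (sys F).Hbar := by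
    rw [← ChevSteinberg.map_Hbar (G2Inv.rules F)]
    exact ⟨h, hh, rfl⟩
  obtain ⟨a, b, ha, hb, e⟩ := exists_hpair hh'
  refine ⟨Units.mk0 (chi a b 7) (chi_ne_zero ha hb 7), Units.mk0 (chi a b 6) (chi_ne_zero ha hb 6), Subtype.ext ?_⟩
  obtain ⟨e1, e2⟩ := chi_recover ha hb
  rw [coe_tor, Units.val_mk0, Units.val_mk0, e, ← e1, ← e2]

/-- The two fundamental monomial elements. -/
noncomputable abbrev na (F : Type*) [Field F] : Gam F := (gs F).nI i0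

/-- The second fundamental monomial element. -/
noncomputable abbrev nb (F : Type*) [Field F] : Gam F := (gs F).nI i1

theorem exists_conjP {g : Gam F} {w : List (Fin chevG2.rank)} (h : (gs F).ConjP g w) (r : ℕ) (hr : r < 12) :
    ∃ c : Fˣ, ∀ t : F, g * X r t * g⁻¹ = X (act chevG2 w r) ((c : F) * t) := by
  obtain ⟨a, ha, hga⟩ := h
  exact ⟨Units.mk0 (a r) (right_ne_zero_of_mul_eq_one (ha r hr)), fun t => hga r hr t⟩

theorem reflData :
    ([6, 10, 8, 9, 11, 7, 4, 5, 1, 0].map fun s => act chevG2 [i0] s) = [10, 6, 9, 8, 11, 4, 7, 1, 5, 0] ∧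
    ([6, 10, 8, 9, 11, 7, 4, 5, 1, 0].map fun s => act chevG2 [i1] s) = [5, 11, 7, 9, 10, 8, 3, 6, 0, 1] ∧
    ([6, 5, 11, 10].map fun s => act chevG2 [i0, i1, i0] s) = [11, 0, 6, 1] := by
  decide +kernel

theorem exists_na (s s' : ℕ) (h : (s, s') ∈ ([(6, 10), (10, 6), (8, 9), (9, 8), (11, 11), (7, 4), (4, 7), (5, 1)] :
    List (ℕ × ℕ))) : ∃ c : Fˣ, ∀ t : F, na F * X s t * (na F)⁻¹ = X s' ((c : F) * t) := by
  obtain ⟨len, hR⟩ := (G2Inv.rules F).root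
  obtain ⟨c, hc⟩ := exists_conjP ((gs F).conjP_nI (G2Inv.rules F) hR i0) s
    (by simp at h; omega)
  refine ⟨c, fun t => ?_⟩
  have hd := reflData.1
  simp only [List.map_cons, List.map_nil, List.cons.injEq] at hd
  rw [hc t]
  simp at h
  rcases h with ⟨rfl, rfl⟩ | ⟨rfl, rfl⟩ | ⟨rfl, rfl⟩ | ⟨rfl, rfl⟩ | ⟨rfl, rfl⟩ | ⟨rfl, rfl⟩ | ⟨rfl, rfl⟩ |
    ⟨rfl, rfl⟩ <;> simp [hd]

theorem exists_nb (s s' : ℕ) (h : (s, s') ∈ ([(6, 5), (5, 6), (10, 11), (11, 10), (8, 7), (7, 8), (9, 9), (1, 0),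
    (0, 1)] : List (ℕ × ℕ))) : ∃ c : Fˣ, ∀ t : F, nb F * X s t * (nb F)⁻¹ = X s' ((c : F) * t) := by
  obtain ⟨len, hR⟩ := (G2Inv.rules F).root
  obtain ⟨c, hc⟩ := exists_conjP ((gs F).conjP_nI (G2Inv.rules F) hR i1) s
    (by simp at h; omega)
  refine ⟨c, fun t => ?_⟩
  have hd := reflData.2.1
  simp only [List.map_cons, List.map_nil, List.cons.injEq] at hd
  rw [hc t]
  simp at h
  rcases h with ⟨rfl, rfl⟩ | ⟨rfl, rfl⟩ | ⟨rfl, rfl⟩ | ⟨rfl, rfl⟩ | ⟨rfl, rfl⟩ | ⟨rfl, rfl⟩ | ⟨rfl, rfl⟩ |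
    ⟨rfl, rfl⟩ | ⟨rfl, rfl⟩ <;> simp [hd]

/-- The rank one identity moving a lower element. -/
theorem lower_eq {r : ℕ} (hr : r < 12) {t : F} (ht : t ≠ 0) :
    X (chevG2.neg r) t = X r t⁻¹ * (gs F).nEl r (-t⁻¹) * X r t⁻¹ := by
  obtain ⟨φ, hφ⟩ := exists_rankOneHom F (r := r) hr
  refine Subtype.ext ?_
  simp only [Subgroup.coe_mul, coe_X, ChevSteinberg.coe_nEl]
  rw [← hφ.lower, ← hφ.upper, ← hφ.mon, ← map_mul, ← map_mul]
  congr 1
  refine Subtype.ext ?_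
  rw [Matrix.SpecialLinearGroup.coe_mul, Matrix.SpecialLinearGroup.coe_mul,
    monT_val (neg_ne_zero.2 (inv_ne_zero ht))]
  simp [lowerT, upperT, Matrix.mul_fin_two]
  field_simp
  simp

theorem nI_conj_simple (i : Fin chevG2.rank) (t : F) :
    (gs F).nI i * X (chevG2.neg (chevG2.simple i)) t * ((gs F).nI i)⁻¹ = X (chevG2.simple i) (-t) := by
  obtain ⟨len, hR⟩ := (G2Inv.rules F).root
  obtain ⟨φ, hφ⟩ := exists_rankOneHom F (r := chevG2.simple i) (hR.simple_lt i i.2)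
  exact Subtype.ext (hφ.conj_lower t)

theorem nEl_simple_eq (i : Fin chevG2.rank) {a : F} (ha : a ≠ 0) :
    ∃ h ∈ (gs F).Hbar, (gs F).nEl (chevG2.simple i) a = h * (gs F).nI i := by
  obtain ⟨len, hR⟩ := (G2Inv.rules F).root
  refine ⟨(gs F).hEl (chevG2.simple i) a, (gs F).hEl_simple_mem i ha, ?_⟩
  rw [Sys.hEl, Sys.nI, ← (gs F).nEl_inv hR (hR.simple_lt i i.2) (1 : F), inv_mul_cancel_right]

theorem nb_word {r : F} (hr : r ≠ 0) :
    ∃ r' r'' : F, r' = -r⁻¹ ∧ ∃ h ∈ (gs F).Hbar, nb F * X 6 r * nb F = X 6 r' * h * nb F * X 6 r'' := by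
  obtain ⟨len, hR⟩ := (G2Inv.rules F).root
  have hneg : chevG2.neg (chevG2.simple i1) = 5 := by decide +kernel
  have h5 := nI_conj_simple (F := F) i1
  simp only [hneg, simple_one] at h5
  obtain ⟨φ, hφ⟩ := exists_rankOneHom F (r := 6) (by decide)
  have e6 : nb F * X 6 r * (nb F)⁻¹ = X 5 (-r) := Subtype.ext (by
    show (sys F).nEl (chevG2.simple i1) 1 * (sys F).x 6 r * ((sys F).nEl (chevG2.simple i1) 1)⁻¹ = (sys F).x 5 (-r)
    rw [simple_one, ← hφ.mon, ← hφ.upper, show (5 : ℕ) = chevG2.neg 6 from negData.2.1.symm,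
      ← hφ.lower, ← map_mul, ← map_inv, ← map_mul]
    congr 1
    rw [mul_inv_eq_iff_eq_mul]
    refine Subtype.ext ?_
    rw [Matrix.SpecialLinearGroup.coe_mul, Matrix.SpecialLinearGroup.coe_mul, monT_val one_ne_zero]
    simp [lowerT, upperT, Matrix.mul_fin_two])
  have hl := lower_eq (F := F) (r := 6) (by decide) (neg_ne_zero.2 hr)
  rw [negData.2.1] at hl
  obtain ⟨h, hh, en⟩ := nEl_simple_eq (F := F) i1 (a := -(-r)⁻¹) (by simpa using hr)
  rw [simple_one] at en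
  obtain ⟨hsq, hs2⟩ : ∃ k, k = nb F * nb F := ⟨_, rfl⟩
  have hk : hsq ∈ (gs F).Hbar := hs2 ▸ (gs F).nI_sq_mem hR i1
  obtain ⟨u, v, huv⟩ := exists_tor hk
  obtain ⟨u', v', huv'⟩ := exists_tor (mul_mem hh ((gs F).nI_conj_Hbar (G2Inv.rules F) hR i1 hk))
  refine ⟨-r⁻¹, ((u : F) ^ (cof 6).1 * (v : F) ^ (cof 6).2)⁻¹ * -r⁻¹, rfl,
    _, mul_mem hh ((gs F).nI_conj_Hbar (G2Inv.rules F) hR i1 hk), ?_⟩
  calc nb F * X 6 r * nb F = X 5 (-r) * (nb F * nb F) := by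
        rw [← e6]; simp [mul_assoc]
    _ = X 6 (-r)⁻¹ * h * nb F * X 6 (-r)⁻¹ * hsq := by rw [hl, en, hs2]; simp [mul_assoc]
    _ = X 6 (-r⁻¹) * (h * (nb F * hsq * (nb F)⁻¹)) * nb F *
        X 6 (((u : F) ^ (cof 6).1 * (v : F) ^ (cof 6).2)⁻¹ * -r⁻¹) := by
      have e := tor_conj u v (s := 6) (by decide) (((u : F) ^ (cof 6).1 * (v : F) ^ (cof 6).2)⁻¹ * -r⁻¹)
      rw [← huv, mul_inv_cancel_left₀ (mul_ne_zero (zpow_ne_zero _ u.ne_zero) (zpow_ne_zero _ v.ne_zero)),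
        mul_inv_eq_iff_eq_mul] at e
      rw [inv_neg]
      simp only [mul_assoc, inv_mul_cancel_left, e]

theorem exists_n10 {a : F} (ha : a ≠ 0) :
    ∀ r < 12, ∃ c : Fˣ, ∀ t : F, (gs F).nEl 10 a * X r t * ((gs F).nEl 10 a)⁻¹ =
      X (act chevG2 [i0, i1, i0] r) ((c : F) * t) := by
  obtain ⟨len, hR⟩ := (G2Inv.rules F).root
  obtain ⟨d, hd, hnd⟩ := (gs F).conjP_nI (G2Inv.rules F) hR i0
  have hd6 : d 6 ≠ 0 := right_ne_zero_of_mul_eq_one (hd 6 (by decide))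
  have hact : act chevG2 [i0] 6 = 10 ∧ act chevG2 [i0] 5 = 1 := by decide +kernel
  have hpair5 : d (chevG2.neg 6) * d 6 = 1 := hd 6 (by decide)
  have e : (gs F).nEl 10 a = na F * (gs F).nEl 6 (a / d 6) * (na F)⁻¹ := by
    have h1 : ∀ t, X 10 (d 6 * t) = na F * X 6 t * (na F)⁻¹ := fun t => by
      rw [hnd 6 (by decide) t, hact.1]
    have h2 : ∀ t, X 1 (d (chevG2.neg 6) * t) = na F * X (chevG2.neg 6) t * (na F)⁻¹ := fun t => by
      rw [hnd (chevG2.neg 6) (by decide +kernel) t, negData.2.1, hact.2]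
    show X 10 a * X (chevG2.neg 10) (-a⁻¹) * X 10 a = na F * (X 6 (a / d 6) * X (chevG2.neg 6) (-(a / d 6)⁻¹) *
      X 6 (a / d 6)) * (na F)⁻¹
    have e1 : X 10 a = na F * X 6 (a / d 6) * (na F)⁻¹ := by rw [← h1, mul_div_cancel₀ _ hd6]
    have e2 : X (chevG2.neg 10) (-a⁻¹) = na F * X (chevG2.neg 6) (-(a / d 6)⁻¹) * (na F)⁻¹ := by
      rw [← h2, negData.2.2.1]
      congr 1
      rw [eq_inv_of_mul_eq_one_left hpair5]
      field_simp
    rw [e1, e2]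
    simp [mul_assoc]
  obtain ⟨h, hh, en⟩ := nEl_simple_eq (F := F) i1 (a := a / d 6) (div_ne_zero ha hd6)
  rw [simple_one] at en
  have hP : (gs F).ConjP ((gs F).nEl 10 a) [i0, i1, i0] := by
    rw [e, en]
    exact (((gs F).conjP_nI (G2Inv.rules F) hR i0).mul hR (((gs F).conjP_Hbar (G2Inv.rules F) hR hh).mul hR
      ((gs F).conjP_nI (G2Inv.rules F) hR i1))).mul hR (((gs F).conjP_nI (G2Inv.rules F) hR i0).inv hR)
  exact fun r hr => exists_conjP hP r hr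

end Cfsg.Agent.G2Deg
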