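import Cfsg.Agent.G2Deg.Mult
import Cfsg.Agent.G2Deg.Roots
import Cfsg.Agent.S1055

/-!
# The radical `q^(1+4)` of the long root parabolic of G₂(q) in a representation
-/

set_option autoImplicit false
set_option linter.unusedSectionVars false

namespace Cfsg.Agent.G2Deg

open Cfsg.Lie Cfsg.Agent.ChevGrp
open Module (finrank)

variable {F : Type*} [Field F] [Fintype F] [DecidableEq F] {V : Type*} [AddCommGroup V] [Module ℂ V]
  [FiniteDimensional ℂ V]

theorem sum1 {β : Type*} [AddCommMonoid β] (f : (Fin 1 → F) → β) : ∑ x, f x = ∑ a, f ![a] :=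
  Fintype.sum_equiv
    { toFun := fun x => x 0
      invFun := fun a => ![a]
      left_inv := fun x => by funext i; fin_cases i; rfl
      right_inv := fun a => rfl } _ _ fun x => congrArg f (by funext i; fin_cases i; rfl)

theorem sum2 {β : Type*} [AddCommMonoid β] (f : (Fin 2 → F) → β) : ∑ x, f x = ∑ a, ∑ b, f ![a, b] := by
  rw [← Fintype.sum_prod_type' (fun a b => f ![a, b])]
  exact Fintype.sum_equiv
    { toFun := fun x => (x 0, x 1)
      invFun := fun p => ![p.1, p.2]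
      left_inv := fun x => by funext i; fin_cases i <;> rfl
      right_inv := fun a => rfl } _ _ fun x => congrArg f (by funext i; fin_cases i <;> rfl)

theorem sum3 {β : Type*} [AddCommMonoid β] (f : (Fin 3 → F) → β) :
    ∑ x, f x = ∑ a, ∑ b, ∑ c, f ![a, b, c] := by
  let e : (Fin 3 → F) ≃ F × F × F :=
    { toFun := fun x => (x 0, x 1, x 2)
      invFun := fun p => ![p.1, p.2.1, p.2.2]
      left_inv := fun x => by funext i; fin_cases i <;> rfl
      right_inv := fun a => rfl }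
  rw [← e.symm.sum_comp]
  simp only [Fintype.sum_prod_type]
  rfl

theorem sum4 {β : Type*} [AddCommMonoid β] (f : (Fin 4 → F) → β) :
    ∑ x, f x = ∑ a, ∑ b, ∑ c, ∑ e, f ![a, b, c, e] := by
  let e : (Fin 4 → F) ≃ F × F × F × F :=
    { toFun := fun x => (x 0, x 1, x 2, x 3)
      invFun := fun p => ![p.1, p.2.1, p.2.2.1, p.2.2.2]
      left_inv := fun x => by funext i; fin_cases i <;> rfl
      right_inv := fun a => rfl }
  rw [← e.symm.sum_comp]
  simp only [Fintype.sum_prod_type]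
  rfl

/-- An additive group inside the group. -/
def Act.ofHom {G : Type*} [Group G] (ρ : Representation ℂ G V) {k : ℕ} (l : (Fin k → F) → G)
    (h : ∀ a b, l a * l b = l (a + b)) : Act F k V where
  R a := ρ (l a)
  mul a b := by rw [← map_mul, h]

theorem Act.ofHom_R0 {G : Type*} [Group G] (ρ : Representation ℂ G V) {k : ℕ} (l : (Fin k → F) → G)
    (h : ∀ a b, l a * l b = l (a + b)) : (Act.ofHom ρ l h).R 0 = 1 := by
  have e := h 0 0
  rw [add_zero] at e
  show ρ (l 0) = 1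
  rw [mul_eq_left.1 e, map_one]

theorem conj_R {G : Type*} [Group G] {ρ : Representation ℂ G V} {k : ℕ} {A B : Act F k V} (g : G)
    (φ : (Fin k → F) → (Fin k → F)) (hφ : ∀ a b, φ (a + b) = φ a + φ b)
    (h0 : ρ g * A.R 0 = B.R 0 * ρ g)
    (h : ∀ i u, ρ g * A.R (Pi.single i u) = B.R (φ (Pi.single i u)) * ρ g) (a : Fin k → F) :
    ρ g * A.R a = B.R (φ a) * ρ g := by
  have hφ0 : φ 0 = 0 := by
    have := hφ 0 0
    rwa [add_zero, left_eq_add] at this
  rw [← Finset.univ_sum_single a]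
  refine Finset.sum_induction _ (fun x => ρ g * A.R x = B.R (φ x) * ρ g) ?_ (by rw [hφ0, h0]) fun i _ => h i _
  intro x y hx hy
  show ρ g * A.R (x + y) = _
  rw [← A.mul, ← mul_assoc, hx, mul_assoc, hy, ← mul_assoc, B.mul, hφ]

/-- The root element lists. -/
def L4 : Fin 4 → ℕ := ![6, 8, 9, 10]

variable (ρ : Representation ℂ (Gam F) V) (ψ : AddChar F ℂ) (hψ : ψ ≠ 1)

/-- The highest root group. -/
noncomputable def A1 : Act F 1 V := Act.ofHom ρ (fun a => X 11 (a 0)) fun a b => X_add (by decide) _ _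

/-- The projection on its fixed space. -/
noncomputable def P0 : Module.End ℂ V := (A1 ρ).E ψ 0

theorem commute11 (i : Fin 4) (t u : F) : Commute (X (L4 i) t) (X 11 u) := by
  fin_cases i <;> exact commX (by decide) t u

/-- The highest root group and one of the root groups of the radical. -/
noncomputable def A2 (i : Fin 4) : Act F 2 V :=
  Act.ofHom ρ (fun a => X 11 (a 0) * X (L4 i) (a 1)) fun a b => by
    have h : L4 i < 12 := by fin_cases i <;> decide
    simp only [Pi.add_apply]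
    rw [← X_add (by decide) (a 0) (b 0), ← X_add h (a 1) (b 1)]
    exact (commute11 i (a 1) (b 0)).mul_mul_mul_comm _ _

/-- The abelian subgroup on the roots 11, 10, 9. -/
noncomputable def A3 : Act F 3 V :=
  Act.ofHom ρ (fun a => X 11 (a 0) * X 10 (a 1) * X 9 (a 2)) fun a b => by
    have h1 : ∀ t u : F, Commute (X 10 t) (X 11 u) := fun t u => commX (by decide) t u
    have h2 : ∀ t u : F, Commute (X 9 t) (X 11 u) := fun t u => commX (by decide) t u
    have h3 : ∀ t u : F, Commute (X 9 t) (X 10 u) := fun t u => commX (by decide) t u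
    simp only [Pi.add_apply]
    rw [← X_add (by decide) (a 0) (b 0), ← X_add (by decide) (a 1) (b 1), ← X_add (by decide) (a 2) (b 2)]
    calc X 11 (a 0) * X 10 (a 1) * X 9 (a 2) * (X 11 (b 0) * X 10 (b 1) * X 9 (b 2))
        = X 11 (a 0) * X 10 (a 1) * (X 9 (a 2) * (X 11 (b 0) * X 10 (b 1))) * X 9 (b 2) := by simp only [mul_assoc]
      _ = X 11 (a 0) * X 10 (a 1) * (X 11 (b 0) * X 10 (b 1) * X 9 (a 2)) * X 9 (b 2) := by
        rw [((h2 (a 2) (b 0)).mul_right (h3 (a 2) (b 1))).eq]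
      _ = X 11 (a 0) * (X 10 (a 1) * X 11 (b 0)) * X 10 (b 1) * X 9 (a 2) * X 9 (b 2) := by simp only [mul_assoc]
      _ = X 11 (a 0) * X 11 (b 0) * (X 10 (a 1) * X 10 (b 1)) * (X 9 (a 2) * X 9 (b 2)) := by
        rw [(h1 (a 1) (b 0)).eq]; simp only [mul_assoc]

theorem P0_def : P0 ρ ψ = (Fintype.card (Fin 1 → F) : ℂ)⁻¹ • ∑ t : F, ρ (X 11 t) := by
  rw [P0, Act.E, sum1]
  congr 1
  refine Finset.sum_congr rfl fun t _ => ?_
  simp [dot, A1, Act.ofHom]

theorem X11_P0 (t : F) : ρ (X 11 t) * P0 ρ ψ = P0 ρ ψ := by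
  have h := (A1 ρ).R_mul_E ψ ![t] 0
  simpa [A1, Act.ofHom, P0, dot] using h

/-- An element normalising the highest root group commutes with the projection. -/
theorem comm_P0 {g : Gam F} {c : Fˣ} (h : ∀ t, g * X 11 t * g⁻¹ = X 11 ((c : F) * t)) :
    Commute (ρ g) (P0 ρ ψ) := by
  show ρ g * P0 ρ ψ = P0 ρ ψ * ρ g
  rw [P0_def, mul_smul_comm, smul_mul_assoc, Finset.mul_sum, Finset.sum_mul]
  congr 1
  conv_rhs => rw [← Equiv.sum_comp (Equiv.mulLeft₀ (c : F) c.ne_zero)]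
  refine Finset.sum_congr rfl fun t _ => ?_
  rw [← map_mul, ← map_mul, show (Equiv.mulLeft₀ (c : F) c.ne_zero) t = (c : F) * t from rfl, ← h,
    inv_mul_cancel_right]

theorem comm_P0' {g : Gam F} (h : ∀ t, Commute g (X 11 t)) : Commute (ρ g) (P0 ρ ψ) :=
  comm_P0 ρ ψ (c := 1) fun t => by rw [Units.val_one, one_mul, (h t).eq, mul_inv_cancel_right]

include hψ in
theorem P0_idem : P0 ρ ψ * P0 ρ ψ = P0 ρ ψ := (A1 ρ).isIdem ψ hψ 0

theorem shuffle {M : Type*} [Monoid M] {a6 a8 a9 a10 b6 b8 b9 b10 s t : M} (h96 : a9 * b6 = b6 * a9)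
    (h86 : a8 * b6 = b6 * a8) (h108 : a10 * b8 = b8 * a10) (h109 : a10 * b9 = b9 * a10)
    (e610 : a10 * b6 = b6 * (a10 * s)) (e89 : a9 * b8 = b8 * (a9 * t))
    (hs : s * (b8 * b9 * b10) = b8 * b9 * b10 * s) (ht : t * (b9 * a10 * b10) = b9 * a10 * b10 * t)
    (hts : t * s = s * t) :
    a6 * a8 * a9 * a10 * (b6 * b8 * b9 * b10) =
      a6 * b6 * (a8 * b8) * (a9 * b9) * (a10 * b10) * (s * t) := by
  calc a6 * a8 * a9 * a10 * (b6 * b8 * b9 * b10)
      = a6 * a8 * a9 * (a10 * b6) * b8 * b9 * b10 := by simp only [mul_assoc]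
    _ = a6 * a8 * (a9 * b6) * a10 * (s * (b8 * b9 * b10)) := by rw [e610]; simp only [mul_assoc]
    _ = a6 * (a8 * b6) * a9 * (a10 * b8) * b9 * b10 * s := by rw [h96, hs]; simp only [mul_assoc]
    _ = a6 * b6 * a8 * (a9 * b8) * (a10 * b9) * b10 * s := by rw [h86, h108]; simp only [mul_assoc]
    _ = a6 * b6 * (a8 * b8) * a9 * (t * (b9 * a10 * b10)) * s := by rw [e89, h109]; simp only [mul_assoc]
    _ = a6 * b6 * (a8 * b8) * (a9 * b9) * (a10 * b10) * (t * s) := by rw [ht]; simp only [mul_assoc]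
    _ = _ := by rw [hts]

/-- A lift of the radical modulo its centre. -/
noncomputable def lift4 (a : Fin 4 → F) : Gam F := X 6 (a 0) * X 8 (a 1) * X 9 (a 2) * X 10 (a 3)

theorem lift4_mul (a b : Fin 4 → F) :
    lift4 a * lift4 b = lift4 (a + b) * X 11 (-(b 0 * a 3) - 3 * (b 1 * a 2)) := by
  simp only [lift4, Pi.add_apply, ← X_add (show 6 < 12 by decide), ← X_add (show 8 < 12 by decide),
    ← X_add (show 9 < 12 by decide), ← X_add (show 10 < 12 by decide), sub_eq_add_neg,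
    ← X_add (show 11 < 12 by decide)]
  have c68 : ∀ t u : F, Commute (X 6 t) (X 8 u) := fun t u => commX (by decide) t u
  have c69 : ∀ t u : F, Commute (X 6 t) (X 9 u) := fun t u => commX (by decide) t u
  have c810 : ∀ t u : F, Commute (X 8 t) (X 10 u) := fun t u => commX (by decide) t u
  have c910 : ∀ t u : F, Commute (X 9 t) (X 10 u) := fun t u => commX (by decide) t u
  have z : ∀ i t u, Commute (X 11 u : Gam F) (X (L4 i) t) := fun i t u => (commute11 i t u).symm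
  have z6 : ∀ t u : F, Commute (X 11 u) (X 6 t) := z 0
  have z8 : ∀ t u : F, Commute (X 11 u) (X 8 t) := z 1
  have z9 : ∀ t u : F, Commute (X 11 u) (X 9 t) := z 2
  have z10 : ∀ t u : F, Commute (X 11 u) (X 10 t) := z 3
  have e610 : X 10 (a 3) * X 6 (b 0) = X 6 (b 0) * (X 10 (a 3) * X 11 (-(b 0 * a 3))) := by
    have e := cj610 (-b 0) (a 3)
    rw [neg_mul, mul_inv_eq_iff_eq_mul] at e
    have e' : X 6 (b 0) * (X 6 (-b 0) * X 10 (a 3)) * X 6 (b 0) =
        X 6 (b 0) * (X 10 (a 3) * X 11 (-(b 0 * a 3)) * X 6 (-b 0)) * X 6 (b 0) := by rw [e]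
    rw [← mul_assoc, X_add (by decide), add_neg_cancel, X_zero (by decide), one_mul] at e'
    rw [e', mul_assoc, mul_assoc, X_add (by decide), neg_add_cancel, X_zero (by decide), mul_one]
  have e89 : X 9 (a 2) * X 8 (b 1) = X 8 (b 1) * (X 9 (a 2) * X 11 (-(3 * (b 1 * a 2)))) := by
    have e := cj89 (-b 1) (a 2)
    rw [show 3 * -b 1 * a 2 = -(3 * (b 1 * a 2)) by ring, mul_inv_eq_iff_eq_mul] at e
    have e' : X 8 (b 1) * (X 8 (-b 1) * X 9 (a 2)) * X 8 (b 1) =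
        X 8 (b 1) * (X 9 (a 2) * X 11 (-(3 * (b 1 * a 2))) * X 8 (-b 1)) * X 8 (b 1) := by rw [e]
    rw [← mul_assoc, X_add (by decide), add_neg_cancel, X_zero (by decide), one_mul] at e'
    rw [e', mul_assoc, mul_assoc, X_add (by decide), neg_add_cancel, X_zero (by decide), mul_one]
  exact shuffle (c69 _ _).symm.eq (c68 _ _).symm.eq (c810 _ _).symm.eq (c910 _ _).symm.eq e610 e89
    (((z8 _ _).mul_right (z9 _ _)).mul_right (z10 _ _)).eq (((z9 _ _).mul_right (z10 _ _)).mul_right (z10 _ _)).eq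
    (comm_self (by decide) _ _ : Commute _ _).eq

theorem comm_lift4 (a : Fin 4 → F) : Commute (ρ (lift4 a)) (P0 ρ ψ) :=
  comm_P0' ρ ψ fun t => (((commute11 0 _ t).mul_left (commute11 1 _ t)).mul_left (commute11 2 _ t)).mul_left
    (commute11 3 _ t)

/-- The radical modulo its centre on the fixed space of the centre. -/
noncomputable def R4 (hψ : ψ ≠ 1) : Act F 4 V where
  R a := ρ (lift4 a) * P0 ρ ψ
  mul a b := by
    calc ρ (lift4 a) * P0 ρ ψ * (ρ (lift4 b) * P0 ρ ψ)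
        = ρ (lift4 a * lift4 b) * (P0 ρ ψ * P0 ρ ψ) := by
          rw [map_mul]
          simp only [mul_assoc]
          rw [← mul_assoc (P0 ρ ψ) (ρ (lift4 b)), ← (comm_lift4 ρ ψ b).eq, mul_assoc]
      _ = _ := by
          rw [lift4_mul, map_mul, mul_assoc, ← mul_assoc (ρ (X 11 _)), X11_P0, P0_idem ρ ψ hψ]

theorem lift4_zero : lift4 (0 : Fin 4 → F) = 1 := by
  simp [lift4, X_zero]

theorem R4_zero : (R4 ρ ψ hψ).R 0 = P0 ρ ψ := by
  show ρ (lift4 0) * P0 ρ ψ = _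
  rw [lift4_zero, map_one, one_mul]

theorem lift4_single (i : Fin 4) (t : F) : lift4 (Pi.single i t) = X (L4 i) t := by
  fin_cases i <;> simp [lift4, X_zero, L4]

theorem word_nil (e : F) : ρ (X 11 e) * P0 ρ ψ = (R4 ρ ψ hψ).R 0 := by
  rw [X11_P0, R4_zero]

theorem word_cons (i : Fin 4) (t : F) {w : Gam F} {v : Fin 4 → F} (h : ρ w * P0 ρ ψ = (R4 ρ ψ hψ).R v) :
    ρ (X (L4 i) t * w) * P0 ρ ψ = (R4 ρ ψ hψ).R (Pi.single i t + v) := by
  rw [map_mul, mul_assoc, h, ← (R4 ρ ψ hψ).mul]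
  have hc : Commute (ρ (lift4 v)) (P0 ρ ψ) := comm_lift4 ρ ψ v
  show _ = ρ (lift4 (Pi.single i t)) * P0 ρ ψ * (ρ (lift4 v) * P0 ρ ψ)
  rw [lift4_single]
  show ρ _ * (ρ (lift4 v) * P0 ρ ψ) = _
  rw [mul_assoc, ← mul_assoc (P0 ρ ψ), ← hc.eq, mul_assoc (ρ (lift4 v)), P0_idem ρ ψ hψ]

theorem word6 (t : F) {w : Gam F} {v : Fin 4 → F} (h : ρ w * P0 ρ ψ = (R4 ρ ψ hψ).R v) :
    ρ (X 6 t * w) * P0 ρ ψ = (R4 ρ ψ hψ).R (Pi.single 0 t + v) := word_cons ρ ψ hψ 0 t h

theorem word8 (t : F) {w : Gam F} {v : Fin 4 → F} (h : ρ w * P0 ρ ψ = (R4 ρ ψ hψ).R v) :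
    ρ (X 8 t * w) * P0 ρ ψ = (R4 ρ ψ hψ).R (Pi.single 1 t + v) := word_cons ρ ψ hψ 1 t h

theorem word9 (t : F) {w : Gam F} {v : Fin 4 → F} (h : ρ w * P0 ρ ψ = (R4 ρ ψ hψ).R v) :
    ρ (X 9 t * w) * P0 ρ ψ = (R4 ρ ψ hψ).R (Pi.single 2 t + v) := word_cons ρ ψ hψ 2 t h

theorem word10 (t : F) {w : Gam F} {v : Fin 4 → F} (h : ρ w * P0 ρ ψ = (R4 ρ ψ hψ).R v) :
    ρ (X 10 t * w) * P0 ρ ψ = (R4 ρ ψ hψ).R (Pi.single 3 t + v) := word_cons ρ ψ hψ 3 t h

theorem conj_R4 {g : Gam F} {c : Fˣ} (hz : ∀ t, g * X 11 t * g⁻¹ = X 11 ((c : F) * t))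
    (φ : (Fin 4 → F) → (Fin 4 → F)) (hφ : ∀ a b, φ (a + b) = φ a + φ b)
    (h : ∀ i u, ρ (g * X (L4 i) u * g⁻¹) * P0 ρ ψ = (R4 ρ ψ hψ).R (φ (Pi.single i u))) (a : Fin 4 → F) :
    ρ g * (R4 ρ ψ hψ).R a = (R4 ρ ψ hψ).R (φ a) * ρ g := by
  have hc : Commute (ρ g) (P0 ρ ψ) := comm_P0 ρ ψ hz
  refine conj_R g φ hφ (by rw [R4_zero]; exact hc.eq) (fun i u => ?_) a
  rw [← h]
  show ρ g * (ρ (lift4 (Pi.single i u)) * P0 ρ ψ) = _
  rw [lift4_single, mul_assoc _ (P0 ρ ψ), ← hc.eq, ← mul_assoc, ← mul_assoc, ← map_mul, ← map_mul,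
    inv_mul_cancel_right]

theorem tor_conj11 (u v : Fˣ) (t : F) :
    tor u v * X 11 t * (tor u v)⁻¹ = X 11 (((u ^ 3 * v ^ 2 : Fˣ) : F) * t) := by
  rw [tor_conj u v (by decide), cofData.2.2.2.2.2.1]
  simp [zpow_ofNat]

/-- The scalars of the torus on the radical. -/
def wt4 (u v : Fˣ) : Fin 4 → Fˣ := ![v, u * v, u ^ 2 * v, u ^ 3 * v]

theorem tor_conjL (u v : Fˣ) (i : Fin 4) (t : F) :
    tor u v * X (L4 i) t * (tor u v)⁻¹ = X (L4 i) ((wt4 u v i : F) * t) := by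
  obtain ⟨-, e6, e8, e9, e10, -⟩ := cofData
  fin_cases i <;> simp [L4, wt4, tor_conj u v, e6, e8, e9, e10, zpow_ofNat]

include hψ in
/-- The torus on the radical. -/
theorem M4_tor (u v : Fˣ) (y : Fin 4 → F) :
    (R4 ρ ψ hψ).M ψ y = (R4 ρ ψ hψ).M ψ (fun i => (wt4 u v i : F) * y i) := by
  let φ : (Fin 4 → F) ≃ (Fin 4 → F) :=
    Equiv.piCongrRight fun i => Equiv.mulLeft₀ (wt4 u v i : F) (wt4 u v i).ne_zero
  have hsingle : ∀ i t, φ (Pi.single i t) = Pi.single i ((wt4 u v i : F) * t) := fun i t => by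
    funext j
    rcases eq_or_ne j i with rfl | hne
    · simp [φ]
    · simp [φ, hne]
  refine M_conj ψ hψ (tor u v) φ (conj_R4 ρ ψ hψ (tor_conj11 u v) φ (fun a b => ?_) fun i t => ?_) fun a => ?_
  · funext j; simp [φ, mul_add]
  · rw [tor_conjL, hsingle, ← mul_one (X (L4 i) _), ← X_zero (F := F) (show 11 < 12 by decide),
      word_cons ρ ψ hψ i _ (word_nil ρ ψ hψ 0), add_zero]
  · refine Finset.sum_congr rfl fun i _ => ?_
    show y i * ((wt4 u v i : F) * a i) = (wt4 u v i : F) * y i * a i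
    ring

/-- The action of `x₇(t)` on the radical modulo its centre. -/
def p7 (t : F) (a : Fin 4 → F) : Fin 4 → F :=
  ![a 0, a 1 - t * a 0, a 2 - 2 * t * a 1 + t ^ 2 * a 0, a 3 + 3 * t * a 2 - 3 * t ^ 2 * a 1 + t ^ 3 * a 0]

/-- Its transpose. -/
def q7 (t : F) (y : Fin 4 → F) : Fin 4 → F :=
  ![y 0 - t * y 1 + t ^ 2 * y 2 + t ^ 3 * y 3, y 1 - 2 * t * y 2 - 3 * t ^ 2 * y 3, y 2 + 3 * t * y 3, y 3]

/-- The action of `x₄(t)` on the radical modulo its centre. -/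
def p4 (t : F) (a : Fin 4 → F) : Fin 4 → F :=
  ![a 0 - 3 * t * a 1 + 3 * t ^ 2 * a 2 + t ^ 3 * a 3, a 1 - 2 * t * a 2 - t ^ 2 * a 3, a 2 + t * a 3, a 3]

/-- Its transpose. -/
def q4 (t : F) (y : Fin 4 → F) : Fin 4 → F :=
  ![y 0, y 1 - 3 * t * y 0, y 2 - 2 * t * y 1 + 3 * t ^ 2 * y 0, y 3 + t * y 2 - t ^ 2 * y 1 + t ^ 3 * y 0]

include hψ in
theorem conj7 (t : F) (a : Fin 4 → F) :
    ρ (X 7 t) * (R4 ρ ψ hψ).R a = (R4 ρ ψ hψ).R (p7 t a) * ρ (X 7 t) := by
  refine conj_R4 ρ ψ hψ (c := 1) (fun s => ?_) (p7 t) (fun a b => ?_) (fun i u => ?_) a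
  · rw [(commX (by decide) t s : Commute (X 7 t) (X 11 s)).eq, mul_inv_cancel_right, Units.val_one, one_mul]
  · funext j; fin_cases j <;> simp [p7] <;> ring
  · fin_cases i
    · show ρ (X 7 t * X (L4 0) u * _) * _ = _
      rw [show L4 0 = 6 from rfl, cj76]
      simp only [mul_assoc]
      rw [word6 ρ ψ hψ _ (word8 ρ ψ hψ _ (word9 ρ ψ hψ _ (word10 ρ ψ hψ _
        (word_nil ρ ψ hψ _))))]
      congr 1
      funext j; fin_cases j <;> simp [p7]
    · show ρ (X 7 t * X (L4 1) u * _) * _ = _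
      rw [show L4 1 = 8 from rfl, cj78]
      simp only [mul_assoc]
      rw [word8 ρ ψ hψ _ (word9 ρ ψ hψ _ (word10 ρ ψ hψ _ (word_nil ρ ψ hψ _)))]
      congr 1
      funext j; fin_cases j <;> simp [p7, mul_assoc]
    · show ρ (X 7 t * X (L4 2) u * _) * _ = _
      rw [show L4 2 = 9 from rfl, cj79, ← mul_one (X 10 _), ← X_zero (F := F) (show 11 < 12 by decide)]
      rw [word9 ρ ψ hψ _ (word10 ρ ψ hψ _ (word_nil ρ ψ hψ _))]
      congr 1
      funext j; fin_cases j <;> simp [p7]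
    · show ρ (X 7 t * X (L4 3) u * _) * _ = _
      rw [show L4 3 = 10 from rfl, (commX (by decide) t u : Commute (X 7 t) (X 10 u)).eq, mul_inv_cancel_right,
        ← mul_one (X 10 u), ← X_zero (F := F) (show 11 < 12 by decide)]
      rw [word10 ρ ψ hψ _ (word_nil ρ ψ hψ _)]
      congr 1
      funext j; fin_cases j <;> simp [p7]

include hψ in
theorem conj4 (t : F) (a : Fin 4 → F) :
    ρ (X 4 t) * (R4 ρ ψ hψ).R a = (R4 ρ ψ hψ).R (p4 t a) * ρ (X 4 t) := by
  refine conj_R4 ρ ψ hψ (c := 1) (fun s => ?_) (p4 t) (fun a b => ?_) (fun i u => ?_) a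
  · have hc : Commute (X 4 t) (X 11 s) :=
      cj_nil (by decide) (by decide) (by decide) (by decide +kernel) (by decide +kernel) t s
    rw [hc.eq, mul_inv_cancel_right, Units.val_one, one_mul]
  · funext j; fin_cases j <;> simp [p4] <;> ring
  · fin_cases i
    · show ρ (X 4 t * X (L4 0) u * _) * _ = _
      have hc : Commute (X 4 t) (X 6 u) :=
        cj_nil (by decide) (by decide) (by decide) (by decide +kernel) (by decide +kernel) t u
      rw [show L4 0 = 6 from rfl, hc.eq, mul_inv_cancel_right, ← mul_one (X 6 u),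
        ← X_zero (F := F) (show 11 < 12 by decide)]
      rw [word6 ρ ψ hψ _ (word_nil ρ ψ hψ _)]
      congr 1
      funext j; fin_cases j <;> simp [p4]
    · show ρ (X 4 t * X (L4 1) u * _) * _ = _
      rw [show L4 1 = 8 from rfl, cj48, ← mul_one (X 6 _), ← X_zero (F := F) (show 11 < 12 by decide)]
      rw [word8 ρ ψ hψ _ (word6 ρ ψ hψ _ (word_nil ρ ψ hψ _))]
      congr 1
      funext j; fin_cases j <;> simp [p4]
    · show ρ (X 4 t * X (L4 2) u * _) * _ = _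
      rw [show L4 2 = 9 from rfl, cj49]
      simp only [mul_assoc]
      rw [word9 ρ ψ hψ _ (word8 ρ ψ hψ _ (word6 ρ ψ hψ _ (word_nil ρ ψ hψ _)))]
      congr 1
      funext j; fin_cases j <;> simp [p4, mul_assoc]
    · show ρ (X 4 t * X (L4 3) u * _) * _ = _
      rw [show L4 3 = 10 from rfl, cj410]
      simp only [mul_assoc]
      rw [word10 ρ ψ hψ _ (word9 ρ ψ hψ _ (word8 ρ ψ hψ _ (word6 ρ ψ hψ _
        (word_nil ρ ψ hψ _))))]
      congr 1
      funext j; fin_cases j <;> simp [p4]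

include hψ in
theorem M4_q7 (t : F) (y : Fin 4 → F) : (R4 ρ ψ hψ).M ψ y = (R4 ρ ψ hψ).M ψ (q7 t y) :=
  M_conj ψ hψ (X 7 t)
    { toFun := p7 t
      invFun := p7 (-t)
      left_inv := fun a => by funext j; fin_cases j <;> simp [p7] <;> ring
      right_inv := fun a => by funext j; fin_cases j <;> simp [p7] <;> ring }
    (conj7 ρ ψ hψ t) fun a => by simp [dot, p7, q7, Fin.sum_univ_four]; ring

include hψ in
theorem M4_q4 (t : F) (y : Fin 4 → F) : (R4 ρ ψ hψ).M ψ y = (R4 ρ ψ hψ).M ψ (q4 t y) :=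
  M_conj ψ hψ (X 4 t)
    { toFun := p4 t
      invFun := p4 (-t)
      left_inv := fun a => by funext j; fin_cases j <;> simp [p4] <;> ring
      right_inv := fun a => by funext j; fin_cases j <;> simp [p4] <;> ring }
    (conj4 ρ ψ hψ t) fun a => by simp [dot, p4, q4, Fin.sum_univ_four]; ring

end Cfsg.Agent.G2Deg
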