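import Mathlib.RepresentationTheory.Character
import Mathlib.Analysis.Fourier.FiniteAbelian.PontryaginDuality
import Mathlib.LinearAlgebra.Trace
import Mathlib.NumberTheory.LegendreSymbol.AddCharacter

/-!
# Multiplicities of the characters of additive groups acting on (a corner of) a representation
-/

set_option autoImplicit false
set_option linter.unusedSectionVars false

namespace Cfsg.Agent.G2Deg

open Module (finrank)

variable {F : Type*} [Field F] [Fintype F] [DecidableEq F] {V : Type*} [AddCommGroup V] [Module ℂ V]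
  [FiniteDimensional ℂ V]

/-- The pairing of coordinate vectors. -/
def dot {k : ℕ} (x a : Fin k → F) : F := ∑ i, x i * a i

theorem dot_add {k : ℕ} (x a b : Fin k → F) : dot x (a + b) = dot x a + dot x b := by
  simp [dot, mul_add, Finset.sum_add_distrib]

theorem sub_dot {k : ℕ} (x y a : Fin k → F) : dot (x - y) a = dot x a - dot y a := by
  simp [dot, sub_mul, Finset.sum_sub_distrib]

theorem dot_comm {k : ℕ} (x a : Fin k → F) : dot x a = dot a x := by simp [dot, mul_comm]

theorem dot_eq_zero_iff {k : ℕ} {x : Fin k → F} : (∀ a, dot x a = 0) ↔ x = 0 := by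
  refine ⟨fun h => funext fun i => ?_, fun h a => by simp [h, dot]⟩
  simpa [dot, Pi.single_apply] using h (Pi.single i 1)

variable (ψ : AddChar F ℂ) (hψ : ψ ≠ 1)

include hψ in
theorem sum_psi_dot {k : ℕ} (x : Fin k → F) :
    ∑ a, ψ (dot x a) = if x = 0 then (Fintype.card (Fin k → F) : ℂ) else 0 := by
  split_ifs with h
  · simp [h, dot]
  · let χ : AddChar (Fin k → F) ℂ :=
      { toFun := fun a => ψ (dot x a)
        map_zero_eq_one' := by simp [dot]
        map_add_eq_mul' := fun a b => by rw [dot_add, AddChar.map_add_eq_mul] }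
    refine AddChar.sum_eq_zero_of_ne_one (ψ := χ) fun e => ?_
    obtain ⟨i, hi⟩ := Function.ne_iff.1 h
    refine hψ (DFunLike.ext _ _ fun t => ?_)
    have := DFunLike.congr_fun e (Pi.single i ((x i)⁻¹ * t))
    have hd : dot x (Pi.single i ((x i)⁻¹ * t)) = t := by
      simp only [dot, Pi.single_apply, mul_ite, mul_zero, Finset.sum_ite_eq', Finset.mem_univ, if_true]
      rw [← mul_assoc, mul_inv_cancel₀ (by simpa using hi), one_mul]
    simpa [χ, hd] using this

/-- An additive group acting on a corner of the endomorphisms. -/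
structure Act (F : Type*) [Field F] (k : ℕ) (V : Type*) [AddCommGroup V] [Module ℂ V] where
  /-- The operators. -/
  R : (Fin k → F) → Module.End ℂ V
  mul : ∀ a b, R a * R b = R (a + b)

namespace Act

variable {k : ℕ} (A : Act F k V)

/-- The projection belonging to a character. -/
noncomputable def E (x : Fin k → F) : Module.End ℂ V :=
  ((Fintype.card (Fin k → F) : ℂ))⁻¹ • ∑ a, ψ (-dot x a) • A.R a

/-- The multiplicity of a character. -/
noncomputable def M (x : Fin k → F) : ℕ := finrank ℂ (LinearMap.range (A.E ψ x))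

omit hψ in
theorem R_mul_E (b x : Fin k → F) : A.R b * A.E ψ x = ψ (dot x b) • A.E ψ x := by
  simp only [E, mul_smul_comm, Finset.mul_sum, A.mul, Finset.smul_sum, smul_smul]
  conv_rhs => rw [← Equiv.sum_comp (Equiv.addLeft b)]
  refine Finset.sum_congr rfl fun a _ => ?_
  rw [Equiv.coe_addLeft, dot_add, neg_add, AddChar.map_add_eq_mul]
  congr 1
  have h1 : ψ (dot x b) * ψ (-dot x b) = 1 := by
    rw [← AddChar.map_add_eq_mul, add_neg_cancel, AddChar.map_zero_eq_one]
  linear_combination (-((Fintype.card (Fin k → F) : ℂ))⁻¹ * ψ (-dot x a)) * h1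

omit hψ in
theorem E_comm (b x : Fin k → F) : A.E ψ x * A.R b = A.R b * A.E ψ x := by
  simp only [E, mul_smul_comm, smul_mul_assoc, Finset.mul_sum, Finset.sum_mul, A.mul, add_comm b]

include hψ in
theorem E_mul_E (x y : Fin k → F) : A.E ψ y * A.E ψ x = if x = y then A.E ψ x else 0 := by
  conv_lhs => rw [E, smul_mul_assoc, Finset.sum_mul]
  simp only [smul_mul_assoc, R_mul_E, smul_smul, ← Finset.sum_smul]
  have : ∀ a, ψ (-dot y a) * ψ (dot x a) = ψ (dot (x - y) a) := fun a => by
    rw [← AddChar.map_add_eq_mul, sub_dot]; congr 1; ring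
  simp only [this, sum_psi_dot ψ hψ, sub_eq_zero]
  split_ifs with h
  · rw [inv_mul_cancel₀ (Nat.cast_ne_zero.2 Fintype.card_ne_zero), one_smul]
  · rw [mul_zero, zero_smul]

include hψ in
theorem sum_E : ∑ x, A.E ψ x = A.R 0 := by
  simp only [E, ← Finset.smul_sum]
  rw [Finset.sum_comm]
  simp only [← Finset.sum_smul]
  have : ∀ a : Fin k → F, ∑ x : Fin k → F, ψ (-dot x a) = if a = 0 then (Fintype.card (Fin k → F) : ℂ) else 0 := by
    intro a
    rw [← Equiv.sum_comp (Equiv.neg _) fun x => ψ (-dot x a)]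
    simp only [Equiv.neg_apply, show ∀ x : Fin k → F, -dot (-x) a = dot a x from fun x => by
      rw [dot_comm a]; simp [dot]]
    exact sum_psi_dot ψ hψ a
  simp only [this, ite_smul, zero_smul, Finset.sum_ite_eq', Finset.mem_univ, if_true, smul_smul]
  rw [inv_mul_cancel₀ (Nat.cast_ne_zero.2 Fintype.card_ne_zero), one_smul]

include hψ in
theorem isIdem (x : Fin k → F) : IsIdempotentElem (A.E ψ x) := by
  rw [IsIdempotentElem, A.E_mul_E ψ hψ, if_pos rfl]

include hψ in
theorem trace_E (x : Fin k → F) : LinearMap.trace ℂ V (A.E ψ x) = (A.M ψ x : ℂ) :=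
  (LinearMap.IsIdempotentElem.isProj_range _ (A.isIdem ψ hψ x)).trace

include hψ in
theorem isIdem_R0 : IsIdempotentElem (A.R 0) := by rw [IsIdempotentElem, A.mul, add_zero]

include hψ in
theorem sum_M : (∑ x, A.M ψ x) = finrank ℂ (LinearMap.range (A.R 0)) := by
  have h := congrArg (LinearMap.trace ℂ V) (A.sum_E ψ hψ)
  rw [map_sum, (LinearMap.IsIdempotentElem.isProj_range _ (A.isIdem_R0 ψ hψ)).trace] at h
  simp only [A.trace_E ψ hψ] at h
  exact_mod_cast h

/-- Pulling back along an additive map. -/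
def comap {j : ℕ} (ι : (Fin j → F) → (Fin k → F)) (h : ∀ a b, ι (a + b) = ι a + ι b) : Act F j V where
  R a := A.R (ι a)
  mul a b := by rw [A.mul, h]

include hψ in
theorem E_comap {j : ℕ} (ι : (Fin j → F) → (Fin k → F)) (h : ∀ a b, ι (a + b) = ι a + ι b)
    (ιT : (Fin k → F) → (Fin j → F)) (hT : ∀ x a, dot x (ι a) = dot (ιT x) a) (y : Fin j → F) :
    (A.comap ι h).E ψ y = ∑ x with ιT x = y, A.E ψ x := by
  have hR : ∀ a, (A.comap ι h).R a = ∑ x, ψ (dot (ιT x) a) • A.E ψ x := fun a => by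
    have h0 : A.R (ι a) * A.R 0 = A.R (ι a) := by rw [A.mul, add_zero]
    show A.R (ι a) = _
    rw [← h0, ← A.sum_E ψ hψ, Finset.mul_sum]
    exact Finset.sum_congr rfl fun x _ => by rw [R_mul_E, hT]
  rw [E]
  simp only [hR, Finset.smul_sum, smul_smul]
  rw [Finset.sum_comm, Finset.sum_filter]
  refine Finset.sum_congr rfl fun x _ => ?_
  rw [← Finset.sum_smul]
  simp only [mul_assoc, ← Finset.mul_sum, ← AddChar.map_add_eq_mul]
  rw [show (∑ a, ψ (-dot y a + dot (ιT x) a)) = ∑ a, ψ (dot (ιT x - y) a) from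
    Finset.sum_congr rfl fun a _ => by rw [sub_dot]; congr 1; ring, sum_psi_dot ψ hψ]
  simp only [sub_eq_zero]
  split_ifs
  · rw [inv_mul_cancel₀ (Nat.cast_ne_zero.2 Fintype.card_ne_zero), one_smul]
  · rw [mul_zero, zero_smul]

include hψ in
theorem M_comap {j : ℕ} (ι : (Fin j → F) → (Fin k → F)) (h : ∀ a b, ι (a + b) = ι a + ι b)
    (ιT : (Fin k → F) → (Fin j → F)) (hT : ∀ x a, dot x (ι a) = dot (ιT x) a) (y : Fin j → F) :
    (A.comap ι h).M ψ y = ∑ x with ιT x = y, A.M ψ x := by
  have hsum := A.E_comap ψ hψ ι h ιT hT y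
  have := congrArg (LinearMap.trace ℂ V) hsum
  rw [map_sum, (A.comap ι h).trace_E ψ hψ] at this
  simp only [A.trace_E ψ hψ] at this
  exact_mod_cast this

end Act

variable {G : Type*} [Group G] {ρ : Representation ℂ G V}

theorem rho_inv_cancel (g : G) : ρ g * ρ g⁻¹ = 1 := by rw [← map_mul, mul_inv_cancel, map_one]

theorem rho_cancel_inv (g : G) : ρ g⁻¹ * ρ g = 1 := by rw [← map_mul, inv_mul_cancel, map_one]

include hψ in
/-- An element carrying one action to another carries the projections. -/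
theorem conj_E {k : ℕ} {A B : Act F k V} (g : G) (φ : (Fin k → F) ≃ (Fin k → F))
    (hg : ∀ a, ρ g * A.R a = B.R (φ a) * ρ g) {x y : Fin k → F} (hxy : ∀ a, dot y (φ a) = dot x a) :
    ρ g * A.E ψ x = B.E ψ y * ρ g := by
  simp only [Act.E, mul_smul_comm, smul_mul_assoc, Finset.mul_sum, Finset.sum_mul, hg]
  congr 1
  rw [← Equiv.sum_comp φ fun a => ψ (-dot y a) • (B.R a * ρ g)]
  simp [hxy]

include hψ in
theorem M_conj {k : ℕ} {A B : Act F k V} (g : G) (φ : (Fin k → F) ≃ (Fin k → F))
    (hg : ∀ a, ρ g * A.R a = B.R (φ a) * ρ g) {x y : Fin k → F} (hxy : ∀ a, dot y (φ a) = dot x a) :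
    B.M ψ y = A.M ψ x := by
  have h := conj_E ψ hψ g φ hg hxy
  have h' : B.E ψ y = ρ g * A.E ψ x * ρ g⁻¹ := by
    rw [h, mul_assoc, rho_inv_cancel, mul_one]
  have := congrArg (LinearMap.trace ℂ V) h'
  rw [LinearMap.trace_mul_cycle, rho_cancel_inv, one_mul, A.trace_E ψ hψ, B.trace_E ψ hψ] at this
  exact_mod_cast this

end Cfsg.Agent.G2Deg
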