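import Cfsg.Agent.G2Deg.Spec
import Mathlib.RepresentationTheory.Irreducible

/-!
# Auxiliary facts: rank one projections, averages over subgroups, the torus
-/

set_option autoImplicit false
set_option linter.unusedSectionVars false

namespace Cfsg.Agent.G2Deg

open Cfsg.Lie Cfsg.Agent.ChevGrp Cfsg.Agent.G2Inv
open Module (finrank)

section General

variable {G : Type*} [Group G] {V : Type*} [AddCommGroup V] [Module ℂ V] [FiniteDimensional ℂ V]

theorem trace_idem {E : Module.End ℂ V} (hE : IsIdempotentElem E) :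
    LinearMap.trace ℂ V E = (finrank ℂ (LinearMap.range E) : ℂ) :=
  (LinearMap.IsIdempotentElem.isProj_range _ hE).trace

/-- An idempotent of rank one. -/
theorem rank_one {E : Module.End ℂ V} (hE : IsIdempotentElem E) (h1 : finrank ℂ (LinearMap.range E) = 1)
    (T : Module.End ℂ V) : E * T * E = LinearMap.trace ℂ V (T * E) • E := by
  obtain ⟨⟨v, hv⟩, -, hspan⟩ := finrank_eq_one_iff'.1 h1
  obtain ⟨l, hl⟩ := hspan ⟨E (T v), LinearMap.mem_range_self E _⟩
  replace hl : l • v = E (T v) := congrArg Subtype.val hl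
  have key : E * T * E = l • E := by
    refine LinearMap.ext fun x => ?_
    obtain ⟨c, hc⟩ := hspan ⟨E x, LinearMap.mem_range_self E _⟩
    replace hc : c • v = E x := congrArg Subtype.val hc
    show E (T (E x)) = l • E x
    rw [← hc, map_smul, map_smul, ← hl, smul_comm]
  have htr := congrArg (LinearMap.trace ℂ V) key
  rw [map_smul, trace_idem hE, h1, Nat.cast_one, smul_eq_mul, mul_one, LinearMap.trace_mul_cycle,
    show E * E = E from hE, LinearMap.trace_mul_comm] at htr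
  rw [key, htr]

/-- A rank one idempotent and an operator commuting with it. -/
theorem rank_one_comm {E T : Module.End ℂ V} (hE : IsIdempotentElem E) (h1 : finrank ℂ (LinearMap.range E) = 1)
    (hc : Commute T E) : T * E = LinearMap.trace ℂ V (T * E) • E := by
  rw [← rank_one hE h1 T]
  conv_rhs => rw [← hc.eq, mul_assoc, show E * E = E from hE]

variable (ρ : Representation ℂ G V)

/-- The average over a subgroup. -/
noncomputable def av (K : Subgroup G) [Fintype K] : Module.End ℂ V :=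
  (Fintype.card K : ℂ)⁻¹ • ∑ k : K, ρ (k : G)

variable (K : Subgroup G) [Fintype K]

theorem rho_av {g : G} (hg : g ∈ K) : ρ g * av ρ K = av ρ K := by
  rw [av, mul_smul_comm, Finset.mul_sum]
  congr 1
  exact Fintype.sum_equiv (Equiv.mulLeft (⟨g, hg⟩ : K)) _ _ fun k => (map_mul ρ g (k : G)).symm

theorem av_rho {g : G} (hg : g ∈ K) : av ρ K * ρ g = av ρ K := by
  rw [av, smul_mul_assoc, Finset.sum_mul]
  congr 1
  exact Fintype.sum_equiv (Equiv.mulRight (⟨g, hg⟩ : K)) _ _ fun k => (map_mul ρ (k : G) g).symm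

theorem av_comm {g : G} (hg : ∀ k ∈ K, g * k * g⁻¹ ∈ K) : Commute (ρ g) (av ρ K) := by
  show ρ g * av ρ K = av ρ K * ρ g
  rw [av, mul_smul_comm, smul_mul_assoc, Finset.mul_sum, Finset.sum_mul]
  congr 1
  let f : K → K := fun k => ⟨g * k * g⁻¹, hg k k.2⟩
  have hf : Function.Injective f := fun a b e => by
    have e' := congrArg Subtype.val e
    simpa [f] using e'
  refine Fintype.sum_bijective f ((Finite.injective_iff_bijective).1 hf) _ _ fun k => ?_
  show ρ g * ρ (k : G) = ρ (g * k * g⁻¹) * ρ g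
  rw [← map_mul, ← map_mul, inv_mul_cancel_right]

/-- Absorbing the average. -/
theorem av_absorb {E : Module.End ℂ V} (h : ∀ k ∈ K, E * ρ k = E) : E * av ρ K = E := by
  rw [av, mul_smul_comm, Finset.mul_sum, Finset.sum_congr rfl fun (k : K) _ => h (k : G) k.2, Finset.sum_const,
    Finset.card_univ, ← Nat.cast_smul_eq_nsmul ℂ, smul_smul,
    inv_mul_cancel₀ (Nat.cast_ne_zero.2 Fintype.card_ne_zero), one_smul]

omit [Fintype K] in
/-- Schur's lemma for the sum of the conjugates. -/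
theorem exists_schur [Fintype G] [ρ.IsIrreducible] (E : Module.End ℂ V) :
    ∃ c : ℂ, (∑ g, ρ g * E * ρ g⁻¹) = c • 1 ∧
      c * (finrank ℂ V : ℂ) = (Fintype.card G : ℂ) * LinearMap.trace ℂ V E := by
  have hcomm : ∀ h : G, ρ h * (∑ g, ρ g * E * ρ g⁻¹) = (∑ g, ρ g * E * ρ g⁻¹) * ρ h := fun h => by
    rw [Finset.mul_sum, Finset.sum_mul]
    refine Fintype.sum_equiv (Equiv.mulLeft h) _ _ fun g => ?_
    show ρ h * (ρ g * E * ρ g⁻¹) = ρ (h * g) * E * ρ (h * g)⁻¹ * ρ h
    rw [mul_inv_rev, map_mul, map_mul, mul_assoc _ _ (ρ h), mul_assoc _ (ρ h⁻¹) (ρ h), ← map_mul ρ h⁻¹ h,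
      inv_mul_cancel, map_one, mul_one]
    simp only [mul_assoc]
  generalize hS : (∑ g, ρ g * E * ρ g⁻¹) = S at hcomm
  let f : Representation.IntertwiningMap ρ ρ :=
    LinearMap.intertwiningMap_of_isIntertwiningMap ρ ρ S fun g v => (LinearMap.congr_fun (hcomm g) v).symm
  obtain ⟨c, hc⟩ := (Representation.IsIrreducible.algebraMap_intertwiningMap_bijective_of_isAlgClosed
    (ρ := ρ)).2 f
  refine ⟨c, ?_, ?_⟩
  · refine LinearMap.ext fun v => ?_
    have hv := congrArg (fun x : Representation.IntertwiningMap ρ ρ => x v) hc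
    simpa [f, Algebra.algebraMap_eq_smul_one] using hv.symm
  · have hS' : S = c • 1 := by
      refine LinearMap.ext fun v => ?_
      have hv := congrArg (fun x : Representation.IntertwiningMap ρ ρ => x v) hc
      simpa [f, Algebra.algebraMap_eq_smul_one] using hv.symm
    have htr := congrArg (LinearMap.trace ℂ V) (hS.trans hS')
    rw [map_smul, LinearMap.trace_one, map_sum, smul_eq_mul] at htr
    rw [← htr, Finset.sum_congr rfl fun g _ => by
      rw [LinearMap.trace_mul_cycle, rho_cancel_inv, one_mul], Finset.sum_const, Finset.card_univ, nsmul_eq_mul]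

end General

variable {F : Type*} [Field F]

theorem chi_tor (u v : Fˣ) (s : ℕ) :
    chi ((u : F) ^ 2 * v) ((u : F) ^ 3 * (v : F) ^ 2) s = (u : F) ^ (cof s).1 * (v : F) ^ (cof s).2 := by
  simp only [chi, cof, mul_zpow, ← zpow_natCast, ← zpow_mul, Nat.cast_ofNat]
  rw [zpow_add₀ u.ne_zero, zpow_add₀ v.ne_zero]
  ring

theorem tor_mul (u v u' v' : Fˣ) : tor u v * tor u' v' = tor (u * u') (v * v') := by
  refine Subtype.ext ?_
  rw [Subgroup.coe_mul, coe_tor, coe_tor, coe_tor, hpair_mul (by simp) (by simp) (by simp) (by simp)]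
  congr 1 <;> push_cast <;> ring

theorem tor_one : tor (1 : Fˣ) 1 = 1 := by
  have h := tor_mul (1 : Fˣ) 1 1 1
  rw [one_mul] at h
  exact mul_eq_left.1 h

theorem weylData : act chevG2 [i1] 8 = 7 ∧ act chevG2 [i1] 5 = 6 ∧ act chevG2 [i0] 4 = 7 ∧
    act chevG2 [i0] 10 = 6 := by
  decide +kernel

theorem coe_nI_mem (i : Fin chevG2.rank) : ((gs F).nI i : GL chevG2.Idx F) ∈ (sys F).Nbar :=
  (sys F).nI_mem_Nbar i

theorem nb_tor (u v : Fˣ) : nb F * tor u v * (nb F)⁻¹ = tor (u * v) v⁻¹ := by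
  obtain ⟨len, hR⟩ := (G2Inv.rules F).root
  refine Subtype.ext ?_
  rw [Subgroup.coe_mul, Subgroup.coe_mul, Subgroup.coe_inv, coe_tor, coe_tor]
  obtain ⟨h8, h5, -, -⟩ := weylData
  obtain ⟨e7, e6, e8, -, -, -, -, e5, -, -⟩ := cofData
  refine conj_hpair (coe_nI_mem i1) ((sys F).conjP_nI (G2Inv.rules F) hR i1) (by simp) (by simp) (by simp)
    (by simp) (p := 8) (q := 5) (by decide) (by decide) h8 h5 ?_ ?_
  · rw [chi_tor, chi_tor, e8, e7]; simp
  · rw [chi_tor, chi_tor, e5, e6]; simp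

theorem na_tor (u v : Fˣ) : na F * tor u v * (na F)⁻¹ = tor u⁻¹ (u ^ 3 * v) := by
  obtain ⟨len, hR⟩ := (G2Inv.rules F).root
  refine Subtype.ext ?_
  rw [Subgroup.coe_mul, Subgroup.coe_mul, Subgroup.coe_inv, coe_tor, coe_tor]
  obtain ⟨-, -, h4, h10⟩ := weylData
  obtain ⟨e7, e6, -, -, e10, -, e4, -, -, -⟩ := cofData
  refine conj_hpair (coe_nI_mem i0) ((sys F).conjP_nI (G2Inv.rules F) hR i0) (by simp) (by simp) (by simp)
    (by simp) (p := 4) (q := 10) (by decide) (by decide) h4 h10 ?_ ?_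
  · rw [chi_tor, chi_tor, e4, e7]; simp
  · rw [chi_tor, chi_tor, e10, e6]; simp [zpow_ofNat]

/-- The torus elements of order three centralising the long root subsystem. -/
theorem commute_tor {u : Fˣ} (hu : u ^ 3 = 1) {r : ℕ} (hr : r ∈ ([11, 10, 6, 5, 1, 0] : List ℕ)) (t : F) :
    Commute (tor u 1) (X r t) := by
  have hu' : (u : F) ^ (3 : ℤ) = 1 := by
    rw [zpow_ofNat, ← Units.val_pow_eq_pow_val, hu, Units.val_one]
  obtain ⟨-, e6, -, -, e10, e11, -, e5, e1, e0⟩ := cofData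
  have key : (u : F) ^ (cof r).1 = 1 := by
    simp at hr
    rcases hr with rfl | rfl | rfl | rfl | rfl | rfl
    · rw [e11]; exact hu'
    · rw [e10]; exact hu'
    · rw [e6]; exact zpow_zero _
    · rw [e5]; exact zpow_zero _
    · rw [e1]; show (u : F) ^ (-3 : ℤ) = 1; rw [zpow_neg, hu', inv_one]
    · rw [e0]; show (u : F) ^ (-3 : ℤ) = 1; rw [zpow_neg, hu', inv_one]
  have h := tor_conj u 1 (s := r) (by simp at hr; omega) t
  rw [key, Units.val_one, one_zpow, one_mul, one_mul, mul_inv_eq_iff_eq_mul] at h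
  exact h

variable [Fintype F] [DecidableEq F] {V : Type*} [AddCommGroup V] [Module ℂ V]
  [FiniteDimensional ℂ V] {ψ : AddChar F ℂ} (hψ : ψ ≠ 1) (ρ : Representation ℂ (Gam F) V)

theorem Act.E_eq_zero {k : ℕ} {A : Act F k V} {x : Fin k → F} (h : A.M ψ x = 0) : A.E ψ x = 0 := by
  rwa [Act.M, Submodule.finrank_eq_zero, LinearMap.range_eq_bot] at h

include hψ in
theorem Act.R0_mul_E {k : ℕ} (A : Act F k V) (x : Fin k → F) : A.R 0 * A.E ψ x = A.E ψ x := by
  rw [A.R_mul_E, show dot x (0 : Fin k → F) = 0 by simp [dot], AddChar.map_zero_eq_one, one_smul]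

include hψ in
/-- An element normalising the action commutes with the projection of the trivial character. -/
theorem comm_zero {k : ℕ} {A : Act F k V} (g : Gam F) (φ : (Fin k → F) ≃ (Fin k → F))
    (hg : ∀ a, ρ g * A.R a = A.R (φ a) * ρ g) : Commute (ρ g) (A.E ψ 0) :=
  conj_E ψ hψ g φ hg fun a => by simp [dot]

include hψ in
theorem X11_E4 (x : Fin 4 → F) (t : F) : ρ (X 11 t) * (R4 ρ ψ hψ).E ψ x = (R4 ρ ψ hψ).E ψ x := by
  conv_lhs => rw [← Act.R0_mul_E hψ (R4 ρ ψ hψ) x, R4_zero, ← mul_assoc, X11_P0, ← R4_zero ρ ψ hψ]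
  exact Act.R0_mul_E hψ _ x

include hψ in
theorem X_E4 (x : Fin 4 → F) (i : Fin 4) (t : F) :
    ρ (X (L4 i) t) * (R4 ρ ψ hψ).E ψ x = ψ (x i * t) • (R4 ρ ψ hψ).E ψ x := by
  have h := (R4 ρ ψ hψ).R_mul_E ψ (Pi.single i t) x
  have h' : (R4 ρ ψ hψ).R (Pi.single i t) = ρ (X (L4 i) t) * P0 ρ ψ := by rw [← lift4_single]; rfl
  rw [h', mul_assoc, ← R4_zero ρ ψ hψ, Act.R0_mul_E hψ] at h
  rw [h]
  congr 2
  simp [dot, Pi.single_apply]

include hψ in
theorem comm_X_E4 (x : Fin 4 → F) (i : Fin 4) (t : F) :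
    Commute (ρ (X (L4 i) t)) ((R4 ρ ψ hψ).E ψ x) := by
  have hc : Commute (ρ (X (L4 i) t)) (P0 ρ ψ) := comm_P0' ρ ψ fun s => commute11 i t s
  have h' : (R4 ρ ψ hψ).R (Pi.single i t) = ρ (X (L4 i) t) * P0 ρ ψ := by rw [← lift4_single]; rfl
  have e0 : (R4 ρ ψ hψ).E ψ x * P0 ρ ψ = (R4 ρ ψ hψ).E ψ x := by
    rw [← R4_zero ρ ψ hψ, Act.E_comm, Act.R0_mul_E hψ]
  have e1 : P0 ρ ψ * (R4 ρ ψ hψ).E ψ x = (R4 ρ ψ hψ).E ψ x := by
    rw [← R4_zero ρ ψ hψ, Act.R0_mul_E hψ]
  show _ = _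
  symm
  calc (R4 ρ ψ hψ).E ψ x * ρ (X (L4 i) t) = (R4 ρ ψ hψ).E ψ x * (P0 ρ ψ * ρ (X (L4 i) t)) := by
        rw [← mul_assoc, e0]
    _ = (R4 ρ ψ hψ).R (Pi.single i t) * (R4 ρ ψ hψ).E ψ x := by rw [← hc.eq, ← h', Act.E_comm]
    _ = _ := by rw [h', mul_assoc, e1]

end Cfsg.Agent.G2Deg
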