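import Cfsg.Agent.G2Deg.Core

/-!
# Multiplicities: the transitive part
-/

set_option autoImplicit false
set_option linter.unusedSectionVars false

namespace Cfsg.Agent.G2Deg

open Cfsg.Lie Cfsg.Agent.ChevGrp
open Module (finrank)

variable {F : Type*} [Field F] [Fintype F] [DecidableEq F] {V : Type*} [AddCommGroup V] [Module ℂ V]
  [FiniteDimensional ℂ V] {ψ : AddChar F ℂ} (hψ : ψ ≠ 1) (ρ : Representation ℂ (Gam F) V)

theorem Act.E_congr {k : ℕ} {A B : Act F k V} (h : ∀ a, A.R a = B.R a) (x : Fin k → F) :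
    A.E ψ x = B.E ψ x := by
  simp only [Act.E, h]

theorem Act.M_congr {k : ℕ} {A B : Act F k V} (h : ∀ a, A.R a = B.R a) (x : Fin k → F) :
    A.M ψ x = B.M ψ x := by
  rw [Act.M, Act.M, Act.E_congr h]

/-- The multiplicities on the pairs. -/
noncomputable def M2 (ψ : AddChar F ℂ) (i : Fin 4) (z w : F) : ℕ := (A2 ρ i).M ψ ![z, w]

/-- The multiplicities on the radical. -/
noncomputable def M4 (x : Fin 4 → F) : ℕ := (R4 ρ ψ hψ).M ψ x

/-- The common multiplicity. -/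
noncomputable def NN (ψ : AddChar F ℂ) : ℕ := M2 ρ ψ 3 1 0

include hψ in
theorem sum_M2 (i : Fin 4) : ∑ z, ∑ w, M2 ρ ψ i z w = finrank ℂ V := by
  have h := (A2 ρ i).sum_M ψ hψ
  have h1 : (A2 ρ i).R 0 = 1 := Act.ofHom_R0 _ _ _
  rw [h1, sum2] at h
  rw [show (LinearMap.range (1 : Module.End ℂ V)) = ⊤ from LinearMap.range_id, finrank_top] at h
  exact h

include hψ in
theorem marg4E (i : Fin 4) (w : F) :
    (A2 ρ i).E ψ ![0, w] = ∑ x with x i = w, (R4 ρ ψ hψ).E ψ x := by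
  have hT : ∀ (x : Fin 4 → F) (b : Fin 1 → F), dot x (Pi.single i (b 0)) = dot ![x i] b := fun x b => by
    simp [dot, Pi.single_apply]
  let B := (R4 ρ ψ hψ).comap (fun b : Fin 1 → F => Pi.single i (b 0)) fun a b => by simp [Pi.single_add]
  have e1 : (A2 ρ i).E ψ ![0, w] = B.E ψ ![w] := by
    rw [Act.E, Act.E, sum2, sum1, Finset.sum_comm, Finset.smul_sum, Finset.smul_sum]
    refine Finset.sum_congr rfl fun b _ => ?_
    show (Fintype.card (Fin 2 → F) : ℂ)⁻¹ • ∑ a, ψ (-dot ![0, w] ![a, b]) • ρ (X 11 a * X (L4 i) b) =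
      (Fintype.card (Fin 1 → F) : ℂ)⁻¹ • ψ (-dot ![w] ![b]) • (ρ (lift4 (Pi.single i b)) * P0 ρ ψ)
    rw [lift4_single, P0_def, mul_smul_comm, smul_smul, smul_smul, Finset.mul_sum, Finset.smul_sum,
      Finset.smul_sum]
    refine Finset.sum_congr rfl fun a _ => ?_
    rw [← map_mul, (commute11 i b a).eq, smul_smul]
    congr 1
    simp [dot, Fin.sum_univ_two]
    ring
  refine e1.trans (((R4 ρ ψ hψ).E_comap ψ hψ (fun b : Fin 1 → F => Pi.single i (b 0))
    (fun a b => by simp [Pi.single_add]) (fun x => ![x i]) hT ![w]).trans ?_)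
  refine Finset.sum_congr (Finset.filter_congr fun x _ => ?_) fun x _ => rfl
  exact ⟨fun e => congrFun e 0, fun e => by funext j; fin_cases j; exact e⟩

include hψ in
theorem marg4 (i : Fin 4) (w : F) : M2 ρ ψ i 0 w = ∑ x with x i = w, M4 hψ ρ x := by
  have h := congrArg (LinearMap.trace ℂ V) (marg4E hψ ρ i w)
  rw [map_sum, (A2 ρ i).trace_E ψ hψ] at h
  simp only [(R4 ρ ψ hψ).trace_E ψ hψ] at h
  exact_mod_cast h

include hψ in
theorem M2_shift (i : Fin 4) {g : Gam F} (t : F) (hg : ∀ u, g * X 11 u * g⁻¹ = X 11 u)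
    (hi : ∀ u, g * X (L4 i) u * g⁻¹ = X (L4 i) u * X 11 (t * u)) (z w : F) :
    M2 ρ ψ i z w = M2 ρ ψ i z (w + t * z) := by
  let φ : (Fin 2 → F) ≃ (Fin 2 → F) :=
    { toFun := fun a => ![a 0 + t * a 1, a 1]
      invFun := fun a => ![a 0 - t * a 1, a 1]
      left_inv := fun a => by funext j; fin_cases j <;> simp
      right_inv := fun a => by funext j; fin_cases j <;> simp }
  refine M_conj ψ hψ (ρ := ρ) g φ (fun a => ?_) fun a => ?_
  · show ρ g * ρ (X 11 (a 0) * X (L4 i) (a 1)) = ρ (X 11 (a 0 + t * a 1) * X (L4 i) (a 1)) * ρ g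
    rw [← map_mul, ← map_mul, ← X_add (by decide)]
    congr 1
    calc g * (X 11 (a 0) * X (L4 i) (a 1))
        = g * X 11 (a 0) * g⁻¹ * (g * X (L4 i) (a 1) * g⁻¹) * g := by simp [mul_assoc]
      _ = _ := by rw [hg, hi, (commute11 i _ _).eq]; simp [mul_assoc]
  · simp [dot, φ, Fin.sum_univ_two]
    ring

include hψ in
theorem M2_ten (z w : F) (hz : z ≠ 0) : M2 ρ ψ 3 z w = M2 ρ ψ 3 z 0 := by
  rw [M2_shift hψ ρ 3 (g := X 6 (-w / z)) (-w / z)
    (fun u => by rw [(commX (by decide) _ u : Commute (X 6 _) (X 11 u)).eq, mul_inv_cancel_right])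
    (fun u => cj610 _ u) z w]
  congr 1
  field_simp
  ring

include hψ in
theorem M2_six (z w : F) (hz : z ≠ 0) : M2 ρ ψ 0 z w = M2 ρ ψ 0 z 0 := by
  rw [M2_shift hψ ρ 0 (g := X 10 (w / z)) (-w / z)
    (fun u => by rw [(commX (by decide) _ u : Commute (X 10 _) (X 11 u)).eq, mul_inv_cancel_right])
    (fun u => ?_) z w]
  · congr 1
    field_simp
    ring
  · have e := cj610 u (w / z)
    rw [mul_inv_eq_iff_eq_mul] at e
    show X 10 (w / z) * X 6 u * (X 10 (w / z))⁻¹ = X 6 u * X 11 _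
    have c1 : Commute (X 11 (u * (w / z))) (X 6 u) := (commX (by decide) _ _ : Commute (X 6 _) (X 11 _)).symm
    have c2 : Commute (X 10 (w / z)) (X 11 (u * (w / z))) := commX (by decide) _ _
    rw [mul_assoc, c1.eq, ← mul_assoc] at e
    have e2 : X 10 (w / z) * X 6 u = X 6 u * X 10 (w / z) * (X 11 (u * (w / z)))⁻¹ := eq_mul_inv_of_mul_eq e.symm
    rw [e2, X_inv (by decide), show -w / z * u = -(u * (w / z)) by ring]
    have c3 : Commute (X 10 (w / z)) (X 11 (-(u * (w / z)))) := commX (by decide) _ _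
    rw [mul_assoc (X 6 u), c3.eq, ← mul_assoc, mul_inv_cancel_right]

include hψ in
theorem M2_scale (i : Fin 4) (u v : Fˣ) (z w : F) :
    M2 ρ ψ i z w = M2 ρ ψ i ((u ^ 3 * v ^ 2 : Fˣ) * z) ((wt4 u v i : F) * w) := by
  have ht := tor_conj11 u v
  generalize u ^ 3 * v ^ 2 = c at ht ⊢
  let φ : (Fin 2 → F) ≃ (Fin 2 → F) :=
    { toFun := fun a => ![(c : F) * a 0, (wt4 u v i : F) * a 1]
      invFun := fun a => ![((c⁻¹ : Fˣ) : F) * a 0, ((wt4 u v i)⁻¹ : Fˣ) * a 1]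
      left_inv := fun a => by funext j; fin_cases j <;> simp
      right_inv := fun a => by funext j; fin_cases j <;> simp }
  refine M_conj ψ hψ (ρ := ρ) (tor u v) φ (fun a => ?_) fun a => ?_
  · show ρ (tor u v) * ρ (X 11 (a 0) * X (L4 i) (a 1)) =
      ρ (X 11 ((c : F) * a 0) * X (L4 i) ((wt4 u v i : F) * a 1)) * ρ (tor u v)
    rw [← map_mul, ← map_mul, ← ht, ← tor_conjL]
    simp [mul_assoc]
  · simp [dot, φ, Fin.sum_univ_two]
    ring

include hψ in
theorem exists_M2_nb : ∃ c0 c1 : Fˣ, ∀ z w, M2 ρ ψ 3 z w = M2 ρ ψ 3 ((c1 : F) * w) ((c0 : F) * z) := by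
  obtain ⟨c0, h0⟩ := exists_nb (F := F) 11 10 (by decide)
  obtain ⟨c1, h1⟩ := exists_nb (F := F) 10 11 (by decide)
  let φ : (Fin 2 → F) ≃ (Fin 2 → F) :=
    { toFun := fun a => ![(c1 : F) * a 1, (c0 : F) * a 0]
      invFun := fun a => ![((c0⁻¹ : Fˣ) : F) * a 1, ((c1⁻¹ : Fˣ) : F) * a 0]
      left_inv := fun a => by funext j; fin_cases j <;> simp
      right_inv := fun a => by funext j; fin_cases j <;> simp }
  refine ⟨c0⁻¹, c1⁻¹, fun z w => ?_⟩
  refine (M_conj ψ hψ (ρ := ρ) (nb F) φ (fun a => ?_) fun a => ?_).symm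
  · show ρ (nb F) * ρ (X 11 (a 0) * X (L4 3) (a 1)) =
      ρ (X 11 ((c1 : F) * a 1) * X (L4 3) ((c0 : F) * a 0)) * ρ (nb F)
    rw [← map_mul, ← map_mul, show L4 3 = 10 from rfl, ← h1, ← h0]
    have hc : Commute (nb F * X 10 (a 1) * (nb F)⁻¹) (nb F * X 11 (a 0) * (nb F)⁻¹) :=
      (Commute.conj_iff (nb F)).2 (commX (by decide) _ _)
    rw [hc.eq]
    simp [mul_assoc]
  · simp [dot, φ, Fin.sum_univ_two]
    field_simp
    ring

include hψ in
theorem M2_ten_eq (z w : F) (h : z ≠ 0 ∨ w ≠ 0) : M2 ρ ψ 3 z w = NN ρ ψ := by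
  have key : ∀ z w : F, z ≠ 0 → M2 ρ ψ 3 z w = NN ρ ψ := fun z w hz => by
    rw [M2_ten hψ ρ z w hz, NN, M2_scale hψ ρ 3 (Units.mk0 z hz) (Units.mk0 z hz)⁻¹ 1 0]
    congr 1
    · simp
      field_simp
    · simp
  rcases eq_or_ne z 0 with rfl | hz
  · obtain ⟨c0, c1, hn⟩ := exists_M2_nb hψ ρ
    rw [hn]
    exact key _ _ (mul_ne_zero c1.ne_zero (h.resolve_left (not_not.2 rfl)))
  · exact key z w hz

theorem sum_split {k : ℕ} (f : F → ℕ) (hf : ∀ z, z ≠ 0 → f z = k) :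
    ∑ z, f z = (Fintype.card F - 1) * k + f 0 := by
  rw [← Finset.add_sum_erase _ _ (Finset.mem_univ (0 : F)), add_comm,
    Finset.sum_congr rfl fun z hz => hf z (Finset.ne_of_mem_erase hz), Finset.sum_const,
    Finset.card_erase_of_mem (Finset.mem_univ _), Finset.card_univ, smul_eq_mul]

include hψ in
theorem dim_eq : finrank ℂ V = (Fintype.card F ^ 2 - 1) * NN ρ ψ + M2 ρ ψ 3 0 0 := by
  have h0 : ∑ w, M2 ρ ψ 3 0 w = (Fintype.card F - 1) * NN ρ ψ + M2 ρ ψ 3 0 0 :=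
    sum_split _ fun w hw => M2_ten_eq hψ ρ 0 w (Or.inr hw)
  have h1 : ∀ z : F, z ≠ 0 → ∑ w, M2 ρ ψ 3 z w = Fintype.card F * NN ρ ψ := fun z hz => by
    rw [Finset.sum_congr rfl fun w _ => M2_ten_eq hψ ρ z w (Or.inl hz)]
    simp
  rw [← sum_M2 hψ ρ 3, sum_split (fun z => ∑ w, M2 ρ ψ 3 z w) h1, h0]
  obtain ⟨j, hj⟩ : ∃ j, Fintype.card F = j + 1 := ⟨Fintype.card F - 1, by have := Fintype.card_pos (α := F); omega⟩
  rw [hj]
  have : (j + 1) ^ 2 - 1 = j * (j + 1) + j := by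
    rw [show (j + 1) ^ 2 = j * (j + 1) + j + 1 by ring]; rfl
  rw [this, Nat.add_sub_cancel]
  ring

include hψ in
theorem exists_M4_na : ∃ c : Fin 4 → Fˣ, ∀ y : Fin 4 → F,
    M4 hψ ρ y = M4 hψ ρ ![(c 0 : F) * y 3, (c 1 : F) * y 2, (c 2 : F) * y 1, (c 3 : F) * y 0] := by
  obtain ⟨z, hz⟩ := exists_na (F := F) 11 11 (by decide)
  obtain ⟨c6, h6⟩ := exists_na (F := F) 6 10 (by decide)
  obtain ⟨c10, h10⟩ := exists_na (F := F) 10 6 (by decide)
  obtain ⟨c8, h8⟩ := exists_na (F := F) 8 9 (by decide)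
  obtain ⟨c9, h9⟩ := exists_na (F := F) 9 8 (by decide)
  let φ : (Fin 4 → F) ≃ (Fin 4 → F) :=
    { toFun := fun a => ![(c10 : F) * a 3, (c9 : F) * a 2, (c8 : F) * a 1, (c6 : F) * a 0]
      invFun := fun a => ![((c6⁻¹ : Fˣ) : F) * a 3, ((c8⁻¹ : Fˣ) : F) * a 2, ((c9⁻¹ : Fˣ) : F) * a 1,
        ((c10⁻¹ : Fˣ) : F) * a 0]
      left_inv := fun a => by funext j; fin_cases j <;> simp
      right_inv := fun a => by funext j; fin_cases j <;> simp }
  refine ⟨![c10⁻¹, c9⁻¹, c8⁻¹, c6⁻¹], fun y => ?_⟩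
  refine (M_conj ψ hψ (ρ := ρ) (na F) φ (conj_R4 ρ ψ hψ hz φ (fun a b => ?_) fun i u => ?_) fun a => ?_).symm
  · funext j; fin_cases j <;> simp [φ, mul_add]
  · have key : ∀ j (e : F), ρ (X (L4 j) e) * P0 ρ ψ = (R4 ρ ψ hψ).R (Pi.single j e) := fun j e => by
      rw [← lift4_single]; rfl
    fin_cases i
    · refine (congrArg (fun g => ρ g * P0 ρ ψ) (h6 u)).trans ((key 3 _).trans (congrArg _ ?_))
      funext j; fin_cases j <;> simp [φ]
    · refine (congrArg (fun g => ρ g * P0 ρ ψ) (h8 u)).trans ((key 2 _).trans (congrArg _ ?_))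
      funext j; fin_cases j <;> simp [φ]
    · refine (congrArg (fun g => ρ g * P0 ρ ψ) (h9 u)).trans ((key 1 _).trans (congrArg _ ?_))
      funext j; fin_cases j <;> simp [φ]
    · refine (congrArg (fun g => ρ g * P0 ρ ψ) (h10 u)).trans ((key 0 _).trans (congrArg _ ?_))
      funext j; fin_cases j <;> simp [φ]
  · simp [dot, φ, Fin.sum_univ_four, mul_comm, mul_left_comm]
    ring

include hψ in
theorem NN_pos (hq : 3 ≤ Fintype.card F) [ρ.IsIrreducible] (h2 : 2 ≤ finrank ℂ V) : 0 < NN ρ ψ := by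
  by_contra h0
  rw [not_lt, Nat.le_zero] at h0
  have hzero : ∀ z w : F, (z ≠ 0 ∨ w ≠ 0) → (A2 ρ 3).E ψ ![z, w] = 0 := fun z w h => by
    have e := M2_ten_eq hψ ρ z w h
    rw [h0, M2, Act.M, Submodule.finrank_eq_zero, LinearMap.range_eq_bot] at e
    exact e
  have hE : (A2 ρ 3).E ψ ![0, 0] = 1 := by
    rw [← show (A2 ρ 3).R 0 = 1 from Act.ofHom_R0 _ _ _, ← (A2 ρ 3).sum_E ψ hψ, sum2,
      Finset.sum_eq_single (0 : F), Finset.sum_eq_single (0 : F)]
    · exact fun w _ hw => hzero 0 w (Or.inr hw)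
    · simp
    · exact fun z _ hz => Finset.sum_eq_zero fun w _ => hzero z w (Or.inl hz)
    · simp
  have hfix : ρ (X 11 1) = 1 := by
    have h := (A2 ρ 3).R_mul_E ψ ![1, 0] ![0, 0]
    rw [hE, mul_one] at h
    simpa [A2, Act.ofHom, dot, X_zero, L4] using h
  have hsimple : IsSimpleGroup (Gam F) := by
    refine (S1055.result ?_).1
    obtain ⟨a, -, ha⟩ := Finset.exists_mem_notMem_of_card_lt_card (s := ({0, 1} : Finset F))
      (t := Finset.univ) (lt_of_le_of_lt Finset.card_le_two (by rw [Finset.card_univ]; omega))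
    simp only [Finset.mem_insert, Finset.mem_singleton, not_or] at ha
    exact ⟨a, ha.1, ha.2⟩
  let K : Subgroup (Gam F) :=
    { carrier := {g | ρ g = 1}
      one_mem' := map_one ρ
      mul_mem' := fun {a b} (ha : ρ a = 1) (hb : ρ b = 1) => (map_mul ρ a b).trans (by rw [ha, hb, one_mul])
      inv_mem' := fun {a} (ha : ρ a = 1) => by
        show ρ a⁻¹ = 1
        have := rho_cancel_inv (ρ := ρ) a
        rwa [ha, mul_one] at this }
  have hK : K.Normal := ⟨fun n (hn : ρ n = 1) g => by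
    show ρ (g * n * g⁻¹) = 1
    rw [map_mul, map_mul, hn, mul_one, rho_inv_cancel]⟩
  rcases hK.eq_bot_or_eq_top with e | e
  · have h1 : X 11 1 ∈ K := hfix
    rw [e, Subgroup.mem_bot, ← X_zero (F := F) (show 11 < 12 by decide)] at h1
    exact one_ne_zero (G2Inv.x_param_inj (by decide) (congrArg Subtype.val h1))
  · have hall : ∀ g, ρ g = 1 := fun g => (show g ∈ K from e ▸ Subgroup.mem_top g)
    haveI : Nontrivial V := Module.nontrivial_of_finrank_pos (R := ℂ) (by omega)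
    obtain ⟨v, hv⟩ := exists_ne (0 : V)
    let W : Subrepresentation ρ := ⟨Submodule.span ℂ {v}, fun g w hw => by rw [hall g]; exact hw⟩
    rcases eq_bot_or_eq_top W with hW | hW
    · have h2' : (Submodule.span ℂ {v} : Submodule ℂ V) = ⊥ := congrArg Subrepresentation.toSubmodule hW
      exact hv (by simpa using h2')
    · have h2' : (Submodule.span ℂ {v} : Submodule ℂ V) = ⊤ := congrArg Subrepresentation.toSubmodule hW
      have h3 : finrank ℂ (Submodule.span ℂ {v}) = 1 := finrank_span_singleton hv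
      rw [h2', finrank_top] at h3
      omega

end Cfsg.Agent.G2Deg
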